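import Mathlib

/-!
The alternating group of degree six has two classes of elements of order three.
-/

set_option autoImplicit false

namespace H59.Nine

open Equiv

theorem a6_three : ∀ g : Perm (Fin 6), g ^ 9 = 1 → g ≠ 1 → Equiv.Perm.sign g = 1 →
    (∃ h : Perm (Fin 6), Equiv.Perm.sign h = 1 ∧ h * (swap 0 1 * swap 1 2) = g * h) ∨
    (∃ h : Perm (Fin 6), Equiv.Perm.sign h = 1 ∧
      h * (swap 0 1 * swap 1 2 * (swap 3 4 * swap 4 5)) = g * h) := by
  decide +kernel

theorem classes_le_two {G : Type*} [Group G] [Finite G] (f : G ≃* ↥(alternatingGroup (Fin 6))) :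
    Nat.card {C : ConjClasses G // ∃ g ∈ C.carrier, g ≠ 1 ∧ orderOf g ∣ 9} ≤ 2 := by
  classical
  have hx : (swap 0 1 * swap 1 2 : Perm (Fin 6)) ∈ alternatingGroup (Fin 6) := by
    rw [Equiv.Perm.mem_alternatingGroup]; decide +kernel
  have hy : (swap 0 1 * swap 1 2 * (swap 3 4 * swap 4 5) : Perm (Fin 6)) ∈ alternatingGroup (Fin 6) := by
    rw [Equiv.Perm.mem_alternatingGroup]; decide +kernel
  set S : Finset (ConjClasses G) :=
    {ConjClasses.mk (f.symm ⟨_, hx⟩), ConjClasses.mk (f.symm ⟨_, hy⟩)}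
  have hmem : ∀ C : ConjClasses G, (∃ g ∈ C.carrier, g ≠ 1 ∧ orderOf g ∣ 9) → C ∈ S := by
    rintro C ⟨g, hgC, hg1, hg9⟩
    have h9 : g ^ 9 = 1 := orderOf_dvd_iff_pow_eq_one.1 hg9
    have h1 : ((f g : ↥(alternatingGroup (Fin 6))) : Perm (Fin 6)) ^ 9 = 1 := by
      rw [← SubgroupClass.coe_pow, ← map_pow, h9, map_one, OneMemClass.coe_one]
    have h2 : ((f g : ↥(alternatingGroup (Fin 6))) : Perm (Fin 6)) ≠ 1 := fun e =>
      hg1 (f.injective (by rw [map_one]; exact Subtype.ext e))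
    rw [← ConjClasses.mem_carrier_iff_mk_eq.1 hgC]
    have key : ∀ (x : Perm (Fin 6)) (hx : x ∈ alternatingGroup (Fin 6)) (h : Perm (Fin 6)),
        Equiv.Perm.sign h = 1 → h * x = ((f g : ↥(alternatingGroup (Fin 6))) : Perm (Fin 6)) * h →
        ConjClasses.mk g = ConjClasses.mk (f.symm ⟨x, hx⟩) := by
      intro x hx h hs he
      refine (ConjClasses.mk_eq_mk_iff_isConj.2 (isConj_iff.2 ⟨f.symm ⟨h, Equiv.Perm.mem_alternatingGroup.2 hs⟩, ?_⟩)).symm
      apply f.injective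
      simp only [map_mul, map_inv, MulEquiv.apply_symm_apply]
      apply Subtype.ext
      show h * x * h⁻¹ = _
      rw [he, mul_inv_cancel_right]
    rcases a6_three _ h1 h2 (Equiv.Perm.mem_alternatingGroup.1 (f g).2) with ⟨h, hs, he⟩ | ⟨h, hs, he⟩
    · rw [key _ hx h hs he]; simp [S]
    · rw [key _ hy h hs he]; simp [S]
  calc Nat.card {C : ConjClasses G // ∃ g ∈ C.carrier, g ≠ 1 ∧ orderOf g ∣ 9}
      ≤ Nat.card S := Nat.card_le_card_of_injective (fun C => ⟨C.1, hmem C.1 C.2⟩)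
        fun a b e => Subtype.ext (by simpa using e)
    _ = S.card := Nat.card_eq_finsetCard S
    _ ≤ 2 := Finset.card_le_two

end H59.Nine
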