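import Cfsg.Agent.H62.Basic

/-!
An abelian Sylow `3`-subgroup `R` of order `9` of a simple group, with a subgroup `K` of order `3` invariant
under the normaliser: counting the elements whose `3`-part is conjugate into `R \ K`.
-/

set_option autoImplicit false
set_option linter.style.haveILetI false
set_option linter.unusedSectionVars false

namespace H59.Nine

open Subgroup
open scoped Classical Pointwise

universe u

variable {G : Type u} [Group G] [Finite G]

/-- The standing hypotheses. -/
structure Inv (R : Sylow 3 G) (K : Subgroup G) : Prop where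
  card : Nat.card (R : Subgroup G) = 9
  le : K ≤ (R : Subgroup G)
  cardK : Nat.card K = 3
  inv : ∀ n ∈ normalizer ((R : Subgroup G) : Set G), ∀ k ∈ K, n * k * n⁻¹ ∈ K

theorem comm_of_card {H : Subgroup G} (h : Nat.card H = 9) :
    ∀ a ∈ H, ∀ b ∈ H, a * b = b * a := by
  intro a ha b hb
  haveI : Fact (Nat.Prime 3) := ⟨Nat.prime_three⟩
  exact congrArg Subtype.val
    ((IsPGroup.isMulCommutative_of_card_eq_prime_sq (p := 3) (G := H) (by rw [h]; norm_num)).is_comm.comm
      (⟨a, ha⟩ : H) ⟨b, hb⟩)

/-- Few classes of nonidentity elements of `R` unless some subgroup of order three is invariant. -/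
theorem exists_inv (R : Sylow 3 G) (hR : Nat.card (R : Subgroup G) = 9)
    (h3 : 3 ≤ Nat.card {C : ConjClasses G // ∃ g ∈ C.carrier, g ≠ 1 ∧ orderOf g ∣ 9}) :
    ∃ K, Inv R K := by
  haveI := Fintype.ofFinite G
  haveI : Fact (Nat.Prime 3) := ⟨Nat.prime_three⟩
  set N := normalizer ((R : Subgroup G) : Set G)
  by_contra hno
  -- a point fixed up to powers gives an invariant subgroup
  have hno' : ∀ x ∈ (R : Subgroup G), x ≠ 1 → (∀ n ∈ N, n * x * n⁻¹ ∈ zpowers x) → False := by
    intro x hx hx1 hfix
    have hd : orderOf x ∣ 9 := hR ▸ Subgroup.orderOf_dvd_natCard _ hx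
    have h3x : 3 ∣ orderOf x := by
      obtain ⟨k, hk, he⟩ := (Nat.dvd_prime_pow Nat.prime_three (m := 2)).1 (by simpa using hd)
      rcases k with _ | k
      · exact absurd (orderOf_eq_one_iff.1 (by simpa using he)) hx1
      · exact ⟨3 ^ k, by rw [he, pow_succ, mul_comm]⟩
    set y := x ^ (orderOf x / 3)
    have hy : orderOf y = 3 := orderOf_pow_orderOf_div (orderOf_pos x).ne' h3x
    refine hno ⟨zpowers y, hR, ?_, by rw [Nat.card_zpowers, hy], fun n hn k hk => ?_⟩
    · exact zpowers_le.2 (pow_mem hx _)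
    · obtain ⟨j, rfl⟩ := mem_zpowers_iff.1 hk
      obtain ⟨i, hi⟩ := mem_zpowers_iff.1 (hfix n hn)
      rw [← MulAut.conj_apply, map_zpow, MulAut.conj_apply]
      refine zpow_mem ?_ j
      have hy' : n * y * n⁻¹ = y ^ i := by
        show n * x ^ _ * n⁻¹ = (x ^ _) ^ i
        rw [← MulAut.conj_apply, map_pow, MulAut.conj_apply, ← hi, ← zpow_natCast, ← zpow_mul,
          ← zpow_natCast x, ← zpow_mul, mul_comm]
      exact hy' ▸ zpow_mem (mem_zpowers y) i
  have hcomm := comm_of_card hR
  let O : G → Finset G := fun r => (Finset.univ.filter fun n => n ∈ N).image fun n => n * r * n⁻¹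
  have hO : ∀ r ∈ (R : Subgroup G), r ≠ 1 → 3 ≤ (O r).card := by
    intro r hr hr1
    by_contra hlt
    have hrO : r ∈ O r := Finset.mem_image.2 ⟨1, by simp [N.one_mem], by simp⟩
    have hmem : ∀ n ∈ N, ∀ s ∈ O r, n * s * n⁻¹ ∈ O r := by
      intro n hn s hs
      obtain ⟨m, hm, rfl⟩ := Finset.mem_image.1 hs
      exact Finset.mem_image.2 ⟨n * m, by simpa using N.mul_mem hn (Finset.mem_filter.1 hm).2, by group⟩
    have hOR : ∀ s ∈ O r, s ∈ (R : Subgroup G) := by
      intro s hs
      obtain ⟨m, hm, rfl⟩ := Finset.mem_image.1 hs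
      exact (mem_normalizer_iff.1 (Finset.mem_filter.1 hm).2 r).1 hr
    have hpos : 1 ≤ (O r).card := Finset.card_pos.2 ⟨r, hrO⟩
    rcases (show (O r).card = 1 ∨ (O r).card = 2 by omega) with h | h
    · obtain ⟨a, ha⟩ := Finset.card_eq_one.1 h
      refine hno' r hr hr1 fun n hn => ?_
      have h1 := hmem n hn r hrO
      rw [ha, Finset.mem_singleton] at h1 hrO
      rw [h1, ← hrO]; exact mem_zpowers r
    · obtain ⟨a, b, hab, he⟩ := Finset.card_eq_two.1 h
      have haR := hOR a (by rw [he]; simp)
      have hbR := hOR b (by rw [he]; simp)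
      rw [he, Finset.mem_insert, Finset.mem_singleton] at hrO
      by_cases hs : a * b = 1
      · refine hno' r hr hr1 fun n hn => ?_
        have h1 := hmem n hn r (by rw [he]; simpa using hrO)
        rw [he, Finset.mem_insert, Finset.mem_singleton] at h1
        have hb : b = a⁻¹ := eq_inv_of_mul_eq_one_right hs
        have hza : zpowers r = zpowers a := by
          rcases hrO with e | e
          · rw [e]
          · rw [e, hb, zpowers_inv]
        rw [hza]
        rcases h1 with e | e <;> rw [e]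
        · exact mem_zpowers _
        · rw [hb]; exact (zpowers _).inv_mem (mem_zpowers _)
      · refine hno' (a * b) ((R : Subgroup G).mul_mem haR hbR) hs fun n hn => ?_
        have ha' := hmem n hn a (by rw [he]; simp)
        have hb' := hmem n hn b (by rw [he]; simp)
        rw [he, Finset.mem_insert, Finset.mem_singleton] at ha' hb'
        have hne : n * a * n⁻¹ ≠ n * b * n⁻¹ := fun e => hab (by simpa using e)
        rw [show n * (a * b) * n⁻¹ = (n * a * n⁻¹) * (n * b * n⁻¹) by group]
        rcases ha' with e1 | e1 <;> rcases hb' with e2 | e2 <;> rw [e1, e2] at hne ⊢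
        · exact absurd rfl hne
        · exact mem_zpowers _
        · rw [hcomm b hbR a haR]; exact mem_zpowers _
        · exact absurd rfl hne
  -- at most two classes
  set T := (Finset.univ : Finset G).filter fun r => r ∈ (R : Subgroup G) ∧ r ≠ 1 with hT
  have hTc : T.card = 8 := by
    have h : insert 1 T = (Finset.univ : Finset G).filter fun r => r ∈ (R : Subgroup G) := by
      ext g; by_cases hg : g = 1 <;> simp [hT, hg, (R : Subgroup G).one_mem]
    have h' : (insert 1 T).card = 9 := by
      rw [h, ← hR, Nat.card_eq_fintype_card, Fintype.card_subtype]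
    rw [Finset.card_insert_of_notMem (by simp [hT])] at h'
    omega
  have hsurj : ∀ C : ConjClasses G, (∃ g ∈ C.carrier, g ≠ 1 ∧ orderOf g ∣ 9) →
      C ∈ T.image ConjClasses.mk := by
    rintro C ⟨g, hgC, hg1, hg9⟩
    have hp : IsPGroup 3 (zpowers g) := by
      obtain ⟨k, -, hk⟩ := (Nat.dvd_prime_pow Nat.prime_three (m := 2)).1 (by simpa using hg9)
      exact IsPGroup.of_card (n := k) (by rw [Nat.card_zpowers, hk])
    obtain ⟨P, hP⟩ := hp.exists_le_sylow
    obtain ⟨c, hc⟩ := MulAction.exists_smul_eq G P R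
    refine Finset.mem_image.2 ⟨c * g * c⁻¹, ?_, ?_⟩
    · rw [hT, Finset.mem_filter]
      refine ⟨Finset.mem_univ _, ?_, fun e => hg1 (conj_eq_one_iff.1 e)⟩
      have : MulAut.conj c g ∈ MulAut.conj c • (P : Subgroup G) :=
        Subgroup.smul_mem_pointwise_smul g _ _ (hP (mem_zpowers g))
      rw [← hc, Sylow.coe_subgroup_smul]; simpa using this
    · rw [← ConjClasses.mem_carrier_iff_mk_eq.1 hgC, ConjClasses.mk_eq_mk_iff_isConj]
      exact (isConj_iff.2 ⟨c, rfl⟩).symm
  have h1 : 3 * (T.image ConjClasses.mk).card ≤ T.card := by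
    refine Finset.mul_card_image_le_card T 3 fun C hC => ?_
    obtain ⟨r, hr, rfl⟩ := Finset.mem_image.1 hC
    rw [hT, Finset.mem_filter] at hr
    refine (hO r hr.2.1 hr.2.2).trans (Finset.card_le_card fun s hs => ?_)
    obtain ⟨m, hm, rfl⟩ := Finset.mem_image.1 hs
    rw [Finset.mem_filter, hT, Finset.mem_filter]
    refine ⟨⟨Finset.mem_univ _, (mem_normalizer_iff.1 (Finset.mem_filter.1 hm).2 r).1 hr.2.1,
      fun e => hr.2.2 (conj_eq_one_iff.1 e)⟩, ?_⟩
    rw [ConjClasses.mk_eq_mk_iff_isConj]
    exact (isConj_iff.2 ⟨m, rfl⟩).symm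
  have h2 : Nat.card {C : ConjClasses G // ∃ g ∈ C.carrier, g ≠ 1 ∧ orderOf g ∣ 9} ≤
      (T.image ConjClasses.mk).card := by
    rw [← Nat.card_eq_finsetCard]
    exact Nat.card_le_card_of_injective (fun C => ⟨C.1, hsurj C.1 C.2⟩)
      fun a b e => Subtype.ext (by simpa using e)
  omega

end H59.Nine
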