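import Cfsg.Agent.H59.Nine.Basic
import Cfsg.Agent.H20.PPart

/-!
The elements whose `3`-part is conjugate into `R \ K` form a third of the group.
-/

set_option autoImplicit false
set_option linter.style.haveILetI false
set_option linter.unusedSectionVars false

namespace H59.Nine

theorem eq_nine_of_dvd : ∀ b : ℕ, b < 10 → ∀ a : ℕ, a < 10 → a ∣ b → b ∣ 9 → 1 < a → a ≠ b → b = 9 := by
  intro b hb a ha hab hb9 h1 hne
  rcases (Nat.dvd_prime_pow Nat.prime_three (m := 2)).1 hb9 with ⟨i, hi, rfl⟩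
  rcases (Nat.dvd_prime_pow Nat.prime_three).1 hab with ⟨j, hj, rfl⟩
  interval_cases i <;> interval_cases j <;> simp_all

open Subgroup Finset
open scoped Classical Pointwise

universe u

variable {G : Type u} [Group G] [Fintype G] [hp3 : Fact (Nat.Prime 3)]

/-- regular part of the centralizer -/
noncomputable def reg (x : G) : Finset G :=
  Finset.univ.filter fun h => h * x = x * h ∧ ¬ 3 ∣ orderOf h

/-- stabiliser in the normaliser -/
def st (R : Sylow 3 G) (x : G) : Subgroup G :=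
  normalizer ((R : Subgroup G) : Set G) ⊓ centralizer ({x} : Set G)

theorem mem_cent {x h : G} : h ∈ centralizer ({x} : Set G) ↔ h * x = x * h := by
  rw [mem_centralizer_iff]
  simp only [Set.mem_singleton_iff, forall_eq]
  exact eq_comm

theorem mem_of_commute_all (R : Sylow 3 G) {g : G} (hg : ∃ j : ℕ, orderOf g = 3 ^ j)
    (hc : g ∈ centralizer ((R : Subgroup G) : Set G)) : g ∈ (R : Subgroup G) := by
  obtain ⟨j, hj⟩ := hg
  have hg' : IsPGroup 3 (zpowers g) := IsPGroup.of_card (n := j) (by rw [Nat.card_zpowers, hj])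
  have hle : zpowers g ≤ normalizer ((R : Subgroup G) : Set G) :=
    zpowers_le.2 (centralizer_le_normalizer _ hc)
  have h := R.3 (IsPGroup.to_sup_of_normal_right' hg' R.2 hle) le_sup_right
  exact h ▸ (le_sup_left (b := (R : Subgroup G)) (mem_zpowers g))

theorem exists_sylow_conj (R : Sylow 3 G) {g : G} (hg : ∃ j : ℕ, orderOf g = 3 ^ j) :
    ∃ c : G, c * g * c⁻¹ ∈ (R : Subgroup G) := by
  obtain ⟨j, hj⟩ := hg
  have hp : IsPGroup 3 (zpowers g) := IsPGroup.of_card (n := j) (by rw [Nat.card_zpowers, hj])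
  obtain ⟨P, hP⟩ := hp.exists_le_sylow
  obtain ⟨c, hc⟩ := MulAction.exists_smul_eq G P R
  refine ⟨c, ?_⟩
  have h1 := Subgroup.smul_mem_pointwise_smul g (MulAut.conj c) _ (hP (mem_zpowers g))
  rw [← hc, Sylow.coe_subgroup_smul]
  simpa using h1

theorem exists_orderOf_of_mem (R : Sylow 3 G) {g : G} (hg : g ∈ (R : Subgroup G)) :
    ∃ j : ℕ, orderOf g = 3 ^ j := by
  obtain ⟨j, hj⟩ := IsPGroup.iff_orderOf.1 R.2 ⟨g, hg⟩
  exact ⟨j, by rwa [Subgroup.orderOf_mk] at hj⟩

/-- `C(R) = R × (regular part)` -/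
theorem card_regC (R : Sylow 3 G) (hc : IsMulCommutative (R : Subgroup G)) :
    Nat.card (R : Subgroup G) *
        (univ.filter fun h : G => h ∈ centralizer ((R : Subgroup G) : Set G) ∧ ¬ 3 ∣ orderOf h).card =
      (univ.filter fun h : G => h ∈ centralizer ((R : Subgroup G) : Set G)).card := by
  rw [show Nat.card (R : Subgroup G) = (univ.filter fun r : G => r ∈ (R : Subgroup G)).card by
    rw [Nat.card_eq_fintype_card, Fintype.card_subtype], ← card_product]
  refine card_bij' (fun p _ => p.1 * p.2) (fun g _ => (H20.pPart 3 g, H20.qPart 3 g)) ?_ ?_ ?_ ?_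
  · rintro ⟨r, h⟩ hp
    simp only [mem_product, mem_filter, mem_univ, true_and] at hp ⊢
    refine mul_mem ?_ hp.2.1
    exact mem_centralizer_iff.2 fun s hs => congrArg Subtype.val
      (hc.is_comm.comm (⟨s, hs⟩ : (R : Subgroup G)) ⟨r, hp.1⟩)
  · intro g hg
    simp only [mem_product, mem_filter, mem_univ, true_and] at hg ⊢
    have h1 : H20.pPart 3 g ∈ centralizer ((R : Subgroup G) : Set G) :=
      zpowers_le.2 hg (H20.mem_zpowers_pPart g)
    exact ⟨mem_of_commute_all R (H20.exists_orderOf_pPart g) h1,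
      zpowers_le.2 hg (H20.mem_zpowers_qPart g), H20.not_dvd_orderOf_qPart g⟩
  · rintro ⟨r, h⟩ hp
    simp only [mem_product, mem_filter, mem_univ, true_and] at hp
    obtain ⟨e1, e2⟩ := H20.isPPart_unique' (p := 3) (g := r * h) rfl
      (mem_centralizer_iff.1 hp.2.1 r hp.1) (exists_orderOf_of_mem R hp.1) hp.2.2
    exact Prod.ext e1.symm e2.symm
  · intro g _
    exact H20.pPart_mul_qPart g

theorem card_filter_mem (H : Subgroup G) : (univ.filter fun g : G => g ∈ H).card = Nat.card H := by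
  rw [Nat.card_eq_fintype_card, Fintype.card_subtype]

variable {R : Sylow 3 G} {K : Subgroup G}

theorem Inv.comm (h : Inv R K) {a b : G} (ha : a ∈ (R : Subgroup G)) (hb : b ∈ (R : Subgroup G)) :
    a * b = b * a := comm_of_card h.card a ha b hb

theorem Inv.isMulCommutative (h : Inv R K) : IsMulCommutative (R : Subgroup G) :=
  ⟨⟨fun a b => Subtype.ext (h.comm a.2 b.2)⟩⟩

theorem Inv.nine_regC (h : Inv R K) :
    9 * (univ.filter fun g : G => g ∈ centralizer ((R : Subgroup G) : Set G) ∧ ¬ 3 ∣ orderOf g).card =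
      Nat.card (centralizer ((R : Subgroup G) : Set G)) := by
  rw [← h.card, card_regC R h.isMulCommutative, card_filter_mem]

theorem Inv.le_cent (h : Inv R K) :
    (R : Subgroup G) ≤ centralizer ((R : Subgroup G) : Set G) :=
  fun _ ha => mem_centralizer_iff.2 fun _ hb => h.comm hb ha

theorem Inv.cent_le_st (_h : Inv R K) {x : G} (hx : x ∈ (R : Subgroup G)) :
    centralizer ((R : Subgroup G) : Set G) ≤ st R x :=
  le_inf (centralizer_le_normalizer _)
    (fun g hg => mem_cent.2 (mem_centralizer_iff.1 hg x hx).symm)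

/-- two elements of order dividing nine generating `R` -/
theorem Inv.mem_cent_of_two (h : Inv R K) {x r g : G} (hx : x ∈ (R : Subgroup G))
    (hr : r ∈ (R : Subgroup G)) (hx1 : x ≠ 1) (hrx : r ∉ zpowers x) (hgx : g * x = x * g)
    (hgr : g * r = r * g) : g ∈ centralizer ((R : Subgroup G) : Set G) := by
  have hle : zpowers x ⊔ zpowers r ≤ (R : Subgroup G) :=
    sup_le (zpowers_le.2 hx) (zpowers_le.2 hr)
  have hlt : zpowers x < zpowers x ⊔ zpowers r :=
    lt_of_le_of_ne le_sup_left fun e => hrx (e.symm ▸ le_sup_right (a := zpowers x) (mem_zpowers r))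
  have hd := Subgroup.card_dvd_of_le hle
  rw [h.card] at hd
  have hd' := Subgroup.card_dvd_of_le hlt.le
  have hne : Nat.card (zpowers x) ≠ Nat.card ↥(zpowers x ⊔ zpowers r) := fun e =>
    hlt.ne (Subgroup.eq_of_le_of_card_ge hlt.le e.ge)
  have hx' : 1 < Nat.card (zpowers x) := by
    rw [Nat.card_zpowers]
    exact lt_of_le_of_ne (orderOf_pos x) fun e => hx1 (orderOf_eq_one_iff.1 e.symm)
  have hb9 := Nat.le_of_dvd (by norm_num) hd
  have ha9 := Nat.le_of_dvd (by norm_num) (hd'.trans hd)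
  have h9 := eq_nine_of_dvd _ (by omega) _ (by omega) hd' hd hx' hne
  have hRe : zpowers x ⊔ zpowers r = (R : Subgroup G) :=
    Subgroup.eq_of_le_of_card_ge hle (by rw [h.card, h9])
  have : (R : Subgroup G) ≤ centralizer ({g} : Set G) := hRe ▸ sup_le
    (zpowers_le.2 (mem_cent.2 hgx.symm)) (zpowers_le.2 (mem_cent.2 hgr.symm))
  exact mem_centralizer_iff.2 fun a ha => mem_cent.1 (this ha)

/-- kernel of the action of the normaliser on `R / K` -/
def ker0 (R : Sylow 3 G) (K : Subgroup G) : Set G :=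
  {n | n ∈ normalizer ((R : Subgroup G) : Set G) ∧ ∀ r ∈ (R : Subgroup G), n * r * n⁻¹ * r⁻¹ ∈ K}

theorem Inv.conj_eq_or (h : Inv R K) {n k : G} (hn : n ∈ normalizer ((R : Subgroup G) : Set G))
    (hk : k ∈ K) (hk1 : k ≠ 1) : n * k * n⁻¹ = k ∨ n * k * n⁻¹ = k⁻¹ := by
  have h' := h.inv n hn k hk
  have hne : n * k * n⁻¹ ≠ 1 := fun e => hk1 (conj_eq_one_iff.1 e)
  have ho : orderOf k = 3 := by
    rcases (Nat.dvd_prime Nat.prime_three).1 (h.cardK ▸ K.orderOf_dvd_natCard hk) with e | e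
    · exact absurd (orderOf_eq_one_iff.1 e) hk1
    · exact e
  have hz : zpowers k = K :=
    Subgroup.eq_of_le_of_card_ge (zpowers_le.2 hk) (by rw [Nat.card_zpowers, ho, h.cardK])
  rw [← hz] at h'
  obtain ⟨i, hi⟩ := mem_zpowers_iff.1 h'
  rw [← zpow_mod_orderOf, ho] at hi
  have h1 := Int.emod_nonneg i (b := (3 : ℤ)) (by norm_num)
  have h2 := Int.emod_lt_of_pos i (b := (3 : ℤ)) (by norm_num)
  have : i % 3 = 0 ∨ i % 3 = 1 ∨ i % 3 = 2 := by omega
  rw [show ((3 : ℕ) : ℤ) = 3 from rfl] at hi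
  rcases this with e | e | e <;> rw [e] at hi
  · exact absurd (by simpa using hi.symm) hne
  · left; simpa using hi.symm
  · right
    rw [← hi, eq_inv_iff_mul_eq_one, ← zpow_add_one, show (2 : ℤ) + 1 = ((3 : ℕ) : ℤ) from rfl,
      zpow_natCast, ← ho, pow_orderOf_eq_one]

theorem Inv.kfix (_h : Inv R K) {n : G} (hfix : ∀ k ∈ K, n * k * n⁻¹ = k) (k : G) (hk : k ∈ K)
    (m : ℕ) : n ^ m * k * (n ^ m)⁻¹ = k := by
  induction m with
  | zero => simp
  | succ m ih =>
    rw [pow_succ', show n * n ^ m * k * (n * n ^ m)⁻¹ = n * (n ^ m * k * (n ^ m)⁻¹) * n⁻¹ by group, ih,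
      hfix k hk]

/-- an element fixing `K` and `R / K` centralises `R` -/
theorem Inv.unipotent (h : Inv R K) {n : G} (hn : n ∈ ker0 R K) (hfix : ∀ k ∈ K, n * k * n⁻¹ = k) :
    n ∈ centralizer ((R : Subgroup G) : Set G) := by
  have h3 : n ^ 3 ∈ centralizer ((R : Subgroup G) : Set G) := mem_centralizer_iff.2 fun r hr => by
    set k := n * r * n⁻¹ * r⁻¹
    have hk : k ∈ K := hn.2 r hr
    have hnr : n * r * n⁻¹ = k * r := by simp [k]
    have hnk := hfix k hk
    have hk3 : k ^ 3 = 1 := orderOf_dvd_iff_pow_eq_one.1 (h.cardK ▸ K.orderOf_dvd_natCard hk)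
    have hn3 : n ^ 3 = n * n * n := by simp [pow_succ]
    have hk3' : k * k * k = 1 := by rw [← hk3]; simp [pow_succ]
    have e : n ^ 3 * r * (n ^ 3)⁻¹ = r := by
      rw [hn3]
      calc n * n * n * r * (n * n * n)⁻¹ = n * (n * (n * r * n⁻¹) * n⁻¹) * n⁻¹ := by group
        _ = n * ((n * k * n⁻¹) * (n * r * n⁻¹)) * n⁻¹ := by (conv_lhs => rw [hnr]); group
        _ = n * (k * (k * r)) * n⁻¹ := by rw [hnk, hnr]
        _ = (n * k * n⁻¹) * (n * k * n⁻¹) * (n * r * n⁻¹) := by group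
        _ = k * k * k * r := by rw [hnk, hnr]; group
        _ = r := by rw [hk3', one_mul]
    calc r * n ^ 3 = n ^ 3 * r * (n ^ 3)⁻¹ * n ^ 3 := by rw [e]
      _ = n ^ 3 * r := by group
  -- the `3`-part of `n` centralises `R`
  set N := normalizer ((R : Subgroup G) : Set G)
  have hp' : ∀ m : G, m ∈ N → m ^ 3 ∈ centralizer ((R : Subgroup G) : Set G) →
      (∃ j : ℕ, orderOf m = 3 ^ j) → m ∈ centralizer ((R : Subgroup G) : Set G) := by
    intro m hm _ ⟨j, hj⟩
    have hm' : IsPGroup 3 (zpowers m) := IsPGroup.of_card (n := j) (by rw [Nat.card_zpowers, hj])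
    have := R.3 (IsPGroup.to_sup_of_normal_right' hm' R.2 (zpowers_le.2 hm)) le_sup_right
    exact h.le_cent (this ▸ (le_sup_left (b := (R : Subgroup G)) (mem_zpowers m)))
  have hq : H20.qPart 3 n ∈ centralizer ((R : Subgroup G) : Set G) := by
    have hq3 : (H20.qPart 3 n) ^ 3 ∈ centralizer ((R : Subgroup G) : Set G) := by
      unfold H20.qPart
      rw [← pow_mul, mul_comm, pow_mul]
      exact pow_mem h3 _
    obtain ⟨u, hu⟩ := exists_pow_eq_self_of_coprime (x := H20.qPart 3 n) (n := 3)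
      ((Nat.Prime.coprime_iff_not_dvd hp3.out).2 (H20.not_dvd_orderOf_qPart n))
    rw [← hu]
    exact pow_mem hq3 u
  rw [← H20.pPart_mul_qPart (p := 3) n]
  refine mul_mem (hp' _ (zpowers_le.2 hn.1 (H20.mem_zpowers_pPart n)) ?_ (H20.exists_orderOf_pPart n)) hq
  unfold H20.pPart
  rw [← pow_mul, mul_comm, pow_mul]
  exact pow_mem h3 _

theorem Inv.mul_of_not_cent (h : Inv R K) {n m : G} (hn : n ∈ ker0 R K)
    (hn' : n ∉ centralizer ((R : Subgroup G) : Set G)) (hm : m ∈ ker0 R K)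
    (hm' : m ∉ centralizer ((R : Subgroup G) : Set G)) :
    n * m ∈ centralizer ((R : Subgroup G) : Set G) := by
  have hinvK : ∀ n ∈ ker0 R K, n ∉ centralizer ((R : Subgroup G) : Set G) →
      ∀ k ∈ K, n * k * n⁻¹ = k⁻¹ := by
    intro n hn hn' k hk
    by_cases hk1 : k = 1
    · simp [hk1]
    refine (h.conj_eq_or hn.1 hk hk1).resolve_left fun e => hn' (h.unipotent hn fun j hj => ?_)
    have ho : orderOf k = 3 := by
      rcases (Nat.dvd_prime Nat.prime_three).1 (h.cardK ▸ K.orderOf_dvd_natCard hk) with e | e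
      · exact absurd (orderOf_eq_one_iff.1 e) hk1
      · exact e
    have hz : zpowers k = K :=
      Subgroup.eq_of_le_of_card_ge (zpowers_le.2 hk) (by rw [Nat.card_zpowers, ho, h.cardK])
    obtain ⟨i, rfl⟩ := mem_zpowers_iff.1 (hz.symm ▸ hj)
    rw [← MulAut.conj_apply, map_zpow, MulAut.conj_apply, e]
  refine h.unipotent ⟨mul_mem hn.1 hm.1, fun r hr => ?_⟩ fun k hk => ?_
  · have h1 := hm.2 r hr
    have e : n * m * r * (n * m)⁻¹ * r⁻¹ =
        (n * (m * r * m⁻¹ * r⁻¹) * n⁻¹) * (n * r * n⁻¹ * r⁻¹) := by group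
    rw [e]
    exact K.mul_mem (h.inv n hn.1 _ h1) (hn.2 r hr)
  · rw [show n * m * k * (n * m)⁻¹ = n * (m * k * m⁻¹) * n⁻¹ by group, hinvK m hm hm' k hk,
      hinvK n hn hn' k⁻¹ (K.inv_mem hk), inv_inv]

theorem Inv.st_le (h : Inv R K) {x : G} (hx : x ∈ (R : Subgroup G)) (hxK : x ∉ K) {n : G}
    (hn : n ∈ st R x) : n ∈ ker0 R K := by
  refine ⟨hn.1, fun r hr => ?_⟩
  have hnx : n * x * n⁻¹ = x := by rw [mem_cent.1 hn.2]; group
  -- `R = ⟨x⟩ ⊔ K`
  have hle : zpowers x ⊔ K ≤ (R : Subgroup G) := sup_le (zpowers_le.2 hx) h.le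
  have hlt : K < zpowers x ⊔ K :=
    lt_of_le_of_ne le_sup_right fun e => hxK (e.symm ▸ le_sup_left (b := K) (mem_zpowers x))
  have hd := Subgroup.card_dvd_of_le hle
  rw [h.card] at hd
  have hl : 3 < Nat.card ↥(zpowers x ⊔ K) := by
    have h1 : Nat.card K ≤ Nat.card ↥(zpowers x ⊔ K) :=
      Nat.le_of_dvd Nat.card_pos (Subgroup.card_dvd_of_le hlt.le)
    rcases eq_or_lt_of_le h1 with e | e
    · exact absurd (Subgroup.eq_of_le_of_card_ge hlt.le e.ge) hlt.ne
    · rwa [h.cardK] at e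
  have h9 : Nat.card ↥(zpowers x ⊔ K) = 9 := by
    have := Nat.le_of_dvd (by norm_num) hd
    interval_cases (Nat.card ↥(zpowers x ⊔ K)) <;> omega
  have hRe := Subgroup.eq_of_le_of_card_ge hle (by rw [h.card, h9])
  haveI : (K.subgroupOf (normalizer ((R : Subgroup G) : Set G))).Normal := ⟨fun a ha g => by
    simpa [Subgroup.mem_subgroupOf] using h.inv g g.2 a ha⟩
  let S : Subgroup G :=
    { carrier := {r | r ∈ (R : Subgroup G) ∧ n * r * n⁻¹ * r⁻¹ ∈ K}
      one_mem' := ⟨one_mem _, by simp⟩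
      mul_mem' := fun {a b} ha hb => by
        refine ⟨mul_mem ha.1 hb.1, ?_⟩
        have hna : n * a * n⁻¹ ∈ (R : Subgroup G) := (mem_normalizer_iff.1 hn.1 a).1 ha.1
        have hnb : n * b * n⁻¹ ∈ (R : Subgroup G) := (mem_normalizer_iff.1 hn.1 b).1 hb.1
        have e : n * (a * b) * n⁻¹ * (a * b)⁻¹ = (n * a * n⁻¹ * a⁻¹) * (n * b * n⁻¹ * b⁻¹) := by
          calc n * (a * b) * n⁻¹ * (a * b)⁻¹ = n * a * n⁻¹ * ((n * b * n⁻¹ * b⁻¹) * a⁻¹) := by group
            _ = n * a * n⁻¹ * (a⁻¹ * (n * b * n⁻¹ * b⁻¹)) := by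
              rw [h.comm (mul_mem hnb (inv_mem hb.1)) (inv_mem ha.1)]
            _ = _ := by group
        rw [e]; exact mul_mem ha.2 hb.2
      inv_mem' := fun {a} ha => by
        refine ⟨inv_mem ha.1, ?_⟩
        have hna : n * a * n⁻¹ ∈ (R : Subgroup G) := (mem_normalizer_iff.1 hn.1 a).1 ha.1
        have e : n * a⁻¹ * n⁻¹ * a⁻¹⁻¹ = (n * a * n⁻¹ * a⁻¹)⁻¹ := by
          rw [inv_inv, show n * a⁻¹ * n⁻¹ = (n * a * n⁻¹)⁻¹ by group,
            show (n * a * n⁻¹ * a⁻¹)⁻¹ = a * (n * a * n⁻¹)⁻¹ by group,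
            h.comm (inv_mem hna) ha.1]
        rw [e]; exact inv_mem ha.2 }
  have hS : (R : Subgroup G) ≤ S := hRe ▸ sup_le
    (zpowers_le.2 ⟨hx, by rw [hnx, mul_inv_cancel]; exact K.one_mem⟩)
    (fun k hk => ⟨h.le hk, mul_mem (h.inv n hn.1 k hk) (K.inv_mem hk)⟩)
  exact (hS hr).2

end H59.Nine
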