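import Cfsg.Agent.H59.Nine.Lift
import Cfsg.Agent.H20.Orth
import Cfsg.Agent.H22.BlockClasses
import Cfsg.Agent.H22.ValueMod
import Cfsg.Agent.H24.CharBasic
import Cfsg.Agent.H24.Quot
import Cfsg.Agent.H21.Laradji
import Cfsg.Agent.H25.Galois
import Cfsg.Agent.H33.HalfTransitive
import Cfsg.Agent.S4710

/-!
Degrees `2 ^ i` and `q`, and `q ^ 2` does not divide the order.
-/

set_option autoImplicit false
set_option linter.style.haveILetI false
set_option linter.unusedSectionVars false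

open Cfsg
open scoped ComplexConjugate Classical

namespace H59.Nine

open Finset

universe u

variable {G : Type u} [Group G] [Fintype G] [IsSimpleGroup G]

/-- a nonprincipal irreducible character of a simple group is faithful -/
theorem irr_faithful (χ : IrrCharacter G) (hχ : χ ≠ H12.oneIrr G) (g : G)
    (hg : (χ : G → ℂ) g = (χ : G → ℂ) 1) : g = 1 := by
  rcases (inferInstance : (H24.kerChar χ).Normal).eq_bot_or_eq_top with e | e
  · exact Subgroup.mem_bot.1 (e ▸ H24.mem_kerChar.2 hg)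
  · exfalso
    have hc : ∀ x : G, (χ : G → ℂ) x = (χ : G → ℂ) 1 := fun x =>
      H24.mem_kerChar.1 (e ▸ Subgroup.mem_top x)
    have h0 := H12.classInner_irr_ne hχ
    rw [classInner] at h0
    simp only [hc, H12.oneIrr_apply, map_one, mul_one, Finset.sum_const, nsmul_eq_mul,
      mul_eq_zero, inv_eq_zero, Nat.cast_eq_zero, Finset.card_univ, Fintype.card_ne_zero,
      Nat.card_pos.ne', false_or] at h0
    exact H12.irr_apply_one_ne_zero χ h0

theorem irr_norm_lt (hG : ¬ IsMulCommutative G) (χ : IrrCharacter G) (hχ : χ ≠ H12.oneIrr G) {g : G}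
    (hg : g ≠ 1) : ‖(χ : G → ℂ) g‖ ≠ (charDegree (χ : G → ℂ) : ℝ) := by
  obtain ⟨n, ρ, hρ, h⟩ := χ.2
  intro he
  rw [← h] at he
  change ‖ρ.character g‖ = ((H12.degree ρ.character : ℕ) : ℝ) at he
  rw [H12.degree_character] at he
  obtain ⟨ω, hω⟩ := H12.exists_scalar_of_norm_eq ρ g he
  apply hg
  refine Subgroup.mem_bot.1 ((H62.center_eq_bot_of_simple hG) ▸ Subgroup.mem_center_iff.2 fun x => ?_)
  have hc : ρ (x * g) = ρ (g * x) := by
    rw [map_mul, map_mul, hω]; ext v; simp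
  have h1 : ρ (x * g * (g * x)⁻¹) = 1 := by
    rw [map_mul, hc, ← map_mul, mul_inv_cancel, map_one]
  have h2 : (χ : G → ℂ) (x * g * (g * x)⁻¹) = (χ : G → ℂ) 1 := by
    rw [← h]
    simp only [Representation.character, h1, map_one]
  exact mul_inv_eq_one.1 (irr_faithful χ hχ _ h2)

theorem degree_ne_one (hG : ¬ IsMulCommutative G) (χ : IrrCharacter G) (hχ : χ ≠ H12.oneIrr G) :
    charDegree (χ : G → ℂ) ≠ 1 := by
  intro h1
  obtain ⟨f, hf⟩ := H12.exists_monoidHom_of_apply_one_eq_one (H12.isCharacter_irr χ)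
    (by rw [H24.irr_one, h1, Nat.cast_one])
  have hinj : ∀ g : G, f g = 1 → g = 1 := fun g hg => irr_faithful χ hχ g (by
    rw [← hf]
    simp [hg])
  refine hG ⟨⟨fun a b => ?_⟩⟩
  refine mul_inv_eq_one.1 (hinj _ ?_)
  rw [map_mul, map_inv, map_mul, map_mul, mul_comm (f a), mul_inv_cancel]

/-- Burnside: zero at an element with class size prime to the degree -/
theorem vanish_of_coprime (hG : ¬ IsMulCommutative G) (χ : IrrCharacter G) (hχ : χ ≠ H12.oneIrr G) {g : G}
    (hg : g ≠ 1)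
    (hcop : Nat.Coprime (charDegree (χ : G → ℂ)) (Subgroup.centralizer ({g} : Set G)).index) :
    (χ : G → ℂ) g = 0 := by
  have hne := irr_norm_lt hG χ hχ hg
  obtain ⟨n, ρ, hρ, h⟩ := χ.2
  rw [← h] at hcop hne ⊢
  haveI := hρ
  change Nat.Coprime (H12.degree ρ.character) _ at hcop
  change ‖ρ.character g‖ ≠ ((H12.degree ρ.character : ℕ) : ℝ) at hne
  rw [H12.degree_character] at hcop hne
  exact (H12.character_eq_zero_or_norm_eq ρ g hcop).resolve_right hne

/-- A Sylow `q`-subgroup has order at most `q` if some irreducible character has degree `q`. -/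
theorem sylow_le_of_degree_prime (hG : ¬ IsMulCommutative G) {q : ℕ} [hq : Fact q.Prime]
    (χ : IrrCharacter G) (hd : charDegree (χ : G → ℂ) = q) (Q : Sylow q G) :
    Nat.card (Q : Subgroup G) ∣ q := by
  have hχ : χ ≠ H12.oneIrr G := by
    rintro rfl
    rw [show charDegree ((H12.oneIrr G : IrrCharacter G) : G → ℂ) = 1 by
      simp [charDegree, H12.oneIrr_apply]] at hd
    exact hq.out.ne_one hd.symm
  haveI : Fintype (Q : Subgroup G) := Fintype.ofFinite _
  have hcent : ∀ z : G, z ≠ 1 → z ∈ Subgroup.centralizer ((Q : Subgroup G) : Set G) →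
      (χ : G → ℂ) z = 0 := by
    intro z hz hzc
    refine vanish_of_coprime hG χ hχ hz ?_
    rw [hd]
    refine hq.out.coprime_iff_not_dvd.2 fun hdvd => Q.not_dvd_index (hdvd.trans ?_)
    exact Subgroup.index_dvd_of_le fun x hx => Subgroup.mem_centralizer_iff.2 fun a ha => by
      rw [Set.mem_singleton_iff.1 ha]
      exact (Subgroup.mem_centralizer_iff.1 hzc x hx).symm
  obtain ⟨m, hm⟩ := H12.IsCharacter.exists_mult (H12.IsCharacter.res (H12.isCharacter_irr χ) (Q : Subgroup G))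
  have hmy : ∀ y : (Q : Subgroup G), (χ : G → ℂ) (y : G) =
      ∑ θ, (m θ : ℂ) * (θ : ↥(Q : Subgroup G) → ℂ) y := fun y => by
    have := congrFun hm y
    simpa using this
  have hdeg : q = ∑ θ, m θ * charDegree (θ : ↥(Q : Subgroup G) → ℂ) := by
    have h := hmy 1
    rw [OneMemClass.coe_one, H24.irr_one, hd] at h
    simp only [H24.irr_one] at h
    exact_mod_cast h
  have hlin : ∀ θ, m θ ≠ 0 → charDegree (θ : ↥(Q : Subgroup G) → ℂ) = 1 := by
    intro θ hθ
    obtain ⟨k, hk⟩ := IsPGroup.iff_card.1 Q.2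
    obtain ⟨i, -, hi⟩ := (Nat.dvd_prime_pow hq.out).1 (hk ▸ H24.charDegree_dvd_card θ)
    rcases i with _ | i
    · simpa using hi
    exfalso
    have hle : m θ * charDegree (θ : ↥(Q : Subgroup G) → ℂ) ≤ q := (single_le_sum
      (f := fun θ => m θ * charDegree (θ : ↥(Q : Subgroup G) → ℂ)) (fun _ _ => Nat.zero_le _)
      (mem_univ θ)).trans hdeg.ge
    have hqle : q ≤ charDegree (θ : ↥(Q : Subgroup G) → ℂ) := by
      rw [hi]; exact Nat.le_self_pow (by omega) q
    have hdθ : charDegree (θ : ↥(Q : Subgroup G) → ℂ) = q :=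
      le_antisymm ((Nat.le_mul_of_pos_left _ (Nat.pos_of_ne_zero hθ)).trans hle) hqle
    have hm1 : m θ = 1 := by
      rw [hdθ] at hle
      have : m θ ≤ 1 := Nat.le_of_mul_le_mul_right (by rwa [one_mul]) hq.out.pos
      omega
    have hother : ∀ θ', θ' ≠ θ → m θ' = 0 := by
      intro θ' hne
      by_contra h0
      have h2 := Finset.add_le_sum (f := fun θ => m θ * charDegree (θ : ↥(Q : Subgroup G) → ℂ))
        (s := univ) (fun _ _ => Nat.zero_le _) (mem_univ θ) (mem_univ θ') hne.symm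
      simp only [← hdeg, hm1, one_mul, hdθ] at h2
      have : 0 < m θ' * charDegree (θ' : ↥(Q : Subgroup G) → ℂ) :=
        Nat.mul_pos (Nat.pos_of_ne_zero h0) (H24.irr_pos θ')
      omega
    have hres : ∀ y : (Q : Subgroup G), (χ : G → ℂ) (y : G) = (θ : ↥(Q : Subgroup G) → ℂ) y := by
      intro y
      rw [hmy, sum_eq_single θ (fun b _ hb => by rw [hother b hb]; simp)
        (fun h => absurd (mem_univ θ) h), hm1]
      simp
    haveI : Nontrivial (Q : Subgroup G) := by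
      rw [← Finite.one_lt_card_iff_nontrivial, hk]
      refine Nat.one_lt_pow ?_ hq.out.one_lt
      rintro rfl
      have h1 := hk ▸ H24.charDegree_dvd_card θ
      rw [hdθ, pow_zero, Nat.dvd_one] at h1
      exact hq.out.ne_one h1
    haveI := Q.2.center_nontrivial
    obtain ⟨z, hz1⟩ := exists_ne (1 : Subgroup.center (Q : Subgroup G))
    have hzG : ((z : (Q : Subgroup G)) : G) ∈ Subgroup.centralizer ((Q : Subgroup G) : Set G) :=
      Subgroup.mem_centralizer_iff.2 fun x hx =>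
        congrArg Subtype.val (Subgroup.mem_center_iff.1 z.2 ⟨x, hx⟩)
    have hz0 : (θ : ↥(Q : Subgroup G) → ℂ) (z : (Q : Subgroup G)) = 0 := by
      rw [← hres]
      refine hcent _ (fun e => hz1 ?_) hzG
      exact Subtype.ext (Subtype.ext e)
    have h := H21.apply_central_mul θ z.2 (z : (Q : Subgroup G))⁻¹
    rw [mul_inv_cancel, hz0, zero_div, zero_mul, H24.irr_one, hdθ] at h
    exact hq.out.ne_zero (by exact_mod_cast h)
  have hcomm : ∀ a b : (Q : Subgroup G), a * b = b * a := by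
    intro a b
    have h1 : (χ : G → ℂ) ((a * b * (b * a)⁻¹ : (Q : Subgroup G)) : G) = (χ : G → ℂ) 1 := by
      rw [hmy, ← OneMemClass.coe_one (Q : Subgroup G), hmy]
      refine sum_congr rfl fun θ _ => ?_
      by_cases h0 : m θ = 0
      · simp [h0]
      congr 1
      obtain ⟨f, hf⟩ := H12.exists_monoidHom_of_apply_one_eq_one (H12.isCharacter_irr θ)
        (by rw [H24.irr_one, hlin θ h0, Nat.cast_one])
      rw [← hf]
      have hab : f (a * b * (b * a)⁻¹) = 1 := by
        rw [map_mul, map_inv, map_mul, map_mul, mul_comm (f a), mul_inv_cancel]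
      simp only [hab, map_one]
    exact mul_inv_eq_one.1 (Subtype.ext (irr_faithful χ hχ _ h1))
  obtain ⟨n, hn⟩ := H12.IsCharacter.classInner_nat
    (H12.IsCharacter.res (H12.isCharacter_irr χ) (Q : Subgroup G))
    (H12.isCharacter_one (G := (Q : Subgroup G)))
  rw [classInner, inv_mul_eq_iff_eq_mul₀ (by exact_mod_cast Nat.card_pos.ne')] at hn
  simp only [map_one, mul_one] at hn
  rw [sum_eq_single (1 : (Q : Subgroup G)) (fun z _ hz => hcent _ (fun e => hz (Subtype.ext e))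
    (Subgroup.mem_centralizer_iff.2 fun x hx => congrArg Subtype.val (hcomm ⟨x, hx⟩ z)))
    (fun h => absurd (mem_univ _) h), OneMemClass.coe_one, H24.irr_one, hd] at hn
  exact ⟨n, by exact_mod_cast hn⟩

variable [hp3 : Fact (Nat.Prime 3)] {R : Sylow 3 G} {K : Subgroup G}

/-- The two nonprincipal constituents lie in the principal block: degrees prime to three. -/
theorem Inv.exists_degrees (h : Inv R K) (hG : ¬ IsMulCommutative G) :
    ∃ (ψ φ : IrrCharacter G), ψ ≠ φ ∧ ψ ≠ H12.oneIrr G ∧ φ ≠ H12.oneIrr G ∧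
      charDegree (φ : G → ℂ) = charDegree (ψ : G → ℂ) + 1 ∧
      ¬ 3 ∣ charDegree (ψ : G → ℂ) ∧ ¬ 3 ∣ charDegree (φ : G → ℂ) ∧
      ∀ χ : IrrCharacter G, (χ = ψ ∨ χ = φ) → ∀ σ : ℂ ≃+* ℂ, ∀ g, σ ((χ : G → ℂ) g) = (χ : G → ℂ) g := by
  obtain ⟨ψ, φ, δ, ε, hne, hψ1, hφ1, hδ, hε, hF⟩ := h.exists_pair hG
  obtain ⟨M, hM⟩ := H22.exists_isPModular 3 Nat.prime_three
  haveI := H20.isPrime_of_modular hM
  set one := H12.oneIrr G with hone
  have hone' : ∀ g, (one : G → ℂ) g = 1 := H12.oneIrr_apply G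
  -- coefficients of the lift
  have hcoef : ∀ χ : IrrCharacter G, classInner (lift3 R K) (χ : G → ℂ) =
      (if one = χ then (1 : ℂ) else 0) + δ * (if ψ = χ then (1 : ℂ) else 0) +
        ε * (if φ = χ then (1 : ℂ) else 0) := by
    intro χ
    rw [← H12.classInner_irr one χ, ← H12.classInner_irr ψ χ, ← H12.classInner_irr φ χ]
    simp only [classInner, hF, hone', add_mul, Finset.sum_add_distrib, mul_add]
    simp only [Finset.mul_sum]
    congr 1
    · congr 1
      exact sum_congr rfl fun g _ => by ring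
    · exact sum_congr rfl fun g _ => by ring
  set B := principalBlock M G with hB
  have honeB : one ∈ B := H20.mem_blockOf_self (H12.oneIrr G)
  have hzero : ∑ χ ∈ B.toFinset, classInner (lift3 R K) (χ : G → ℂ) * (χ : G → ℂ) 1 = 0 := by
    simp only [classInner, Finset.mul_sum, Finset.sum_mul]
    rw [Finset.sum_comm]
    refine sum_eq_zero fun y _ => ?_
    by_cases hy : 3 ∣ orderOf y
    · have ho := H20.weak_orthogonality hM (B := B) H20.isPBlock_principalBlock (x := 1) (y := y)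
        (by rw [orderOf_one]; norm_num) hy
      rw [finsum_mem_eq_toFinset_sum] at ho
      calc ∑ χ ∈ B.toFinset, (Nat.card G : ℂ)⁻¹ * (lift3 R K y * conj ((χ : G → ℂ) y)) * (χ : G → ℂ) 1
          = (Nat.card G : ℂ)⁻¹ * lift3 R K y *
              ∑ χ ∈ B.toFinset, (χ : G → ℂ) 1 * conj ((χ : G → ℂ) y) := by
            rw [Finset.mul_sum]; exact sum_congr rfl fun χ _ => by ring
        _ = 0 := by rw [ho, mul_zero]
    · have h0 : lift3 R K y = 0 := by
        unfold lift3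
        rw [if_neg]
        simp only [third, mem_filter, mem_univ, true_and, H20.pPart_eq_one_iff.2 hy]
        rintro ⟨x, hx, hxc⟩
        obtain ⟨c, hc⟩ := isConj_iff.1 hxc
        exact (mem_outK.1 hx).2 ((conj_eq_one_iff.1 hc) ▸ K.one_mem)
      simp [h0]
  simp only [hcoef, add_mul, Finset.sum_add_distrib, mul_assoc, ← Finset.mul_sum, ite_mul, one_mul,
    zero_mul, Finset.sum_ite_eq, Set.mem_toFinset, if_pos honeB] at hzero
  have hrel : (1 : ℤ) + δ * charDegree (ψ : G → ℂ) + ε * charDegree (φ : G → ℂ) = 0 := by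
    have h1 := hF 1
    rw [h.lift3_one, H24.irr_one, H24.irr_one] at h1
    exact_mod_cast h1.symm
  have hψp := H24.irr_pos ψ
  have hφp := H24.irr_pos φ
  have hone1 : (one : G → ℂ) 1 = 1 := hone' 1
  have hψB : ψ ∈ B := by
    by_contra hn
    rw [if_neg hn, hone1, mul_zero, add_zero] at hzero
    by_cases hm : φ ∈ B
    · rw [if_pos hm, H24.irr_one] at hzero
      have : (1 : ℤ) + ε * charDegree (φ : G → ℂ) = 0 := by exact_mod_cast hzero
      rcases hδ with rfl | rfl <;> omega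
    · rw [if_neg hm, mul_zero, add_zero] at hzero
      exact one_ne_zero hzero
  have hφB : φ ∈ B := by
    by_contra hn
    rw [if_neg hn, if_pos hψB, hone1, mul_zero, add_zero, H24.irr_one] at hzero
    have : (1 : ℤ) + δ * charDegree (ψ : G → ℂ) = 0 := by exact_mod_cast hzero
    rcases hε with rfl | rfl <;> omega
  have hfac : (Nat.card G).factorization 3 = 2 := by
    have h1 := R.card_eq_multiplicity
    rw [h.card] at h1
    exact (Nat.pow_right_injective (show 2 ≤ 3 by norm_num) (h1.symm.trans (by norm_num : (9 : ℕ) = 3 ^ 2)))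
  have hdef : blockDefect 3 B = 2 := by rw [hB, H22.blockDefect_principalBlock, hfac]
  have hmin : sInf ((fun ψ : IrrCharacter G => (charDegree (ψ : G → ℂ)).factorization 3) '' B) = 0 :=
    Nat.sInf_eq_zero.2 (Or.inl ⟨one, honeB, by simp [charDegree, hone']⟩)
  have h3d : ∀ χ ∈ B, ¬ 3 ∣ charDegree (χ : G → ℂ) := by
    intro χ hχ hd
    have h2 := ((Cfsg.Agent.S4710.result 3 M hM B H20.isPBlock_principalBlock _ hdef).2 χ hχ).2 le_rfl
    rw [blockHeight, hmin, Nat.sub_zero] at h2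
    have := Nat.prime_three.factorization_pos_of_dvd (H24.irr_pos χ).ne' hd
    omega
  have hrat : ∀ g, lift3 R K g = ((if g ∈ third R K then 3 else 0 : ℕ) : ℂ) := by
    intro g; unfold lift3; split_ifs <;> simp
  have hgal : charDegree (ψ : G → ℂ) ≠ charDegree (φ : G → ℂ) →
      ∀ χ : IrrCharacter G, (χ = ψ ∨ χ = φ) →
      ∀ σ : ℂ ≃+* ℂ, ∀ g, σ ((χ : G → ℂ) g) = (χ : G → ℂ) g := by
    intro hdne χ hχ σ g
    obtain ⟨χ', hχ'⟩ : ∃ χ' : IrrCharacter G, (χ' : G → ℂ) = (σ : ℂ → ℂ) ∘ (χ : G → ℂ) :=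
      ⟨⟨_, H25.isIrrCharacter_ringEquiv_comp χ.2 σ⟩, rfl⟩
    have hd' : charDegree (χ' : G → ℂ) = charDegree (χ : G → ℂ) := by
      have h1 := H24.irr_one χ'
      conv_lhs at h1 => rw [hχ', Function.comp_apply, H24.irr_one χ, map_natCast]
      exact (Nat.cast_injective h1).symm
    have hinner : classInner (lift3 R K) (χ' : G → ℂ) = σ (classInner (lift3 R K) (χ : G → ℂ)) := by
      simp only [classInner, ← H12.irr_inv]
      simp only [hχ', Function.comp_apply, map_mul, map_inv₀, map_sum,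
        map_natCast, hrat]
    have hnz : classInner (lift3 R K) (χ' : G → ℂ) ≠ 0 := by
      rw [hinner, hcoef]
      rcases hχ with rfl | rfl
      · simp [Ne.symm hψ1, Ne.symm hne, show (δ : ℂ) ≠ 0 by rcases hδ with rfl | rfl <;> norm_num]
      · simp [Ne.symm hφ1, hne, show (ε : ℂ) ≠ 0 by rcases hε with rfl | rfl <;> norm_num]
    rw [hcoef] at hnz
    have hχ'eq : χ' = χ := by
      rcases eq_or_ne one χ' with e | e
      · exfalso
        rw [← e, show charDegree (one : G → ℂ) = 1 by simp [charDegree, hone']] at hd'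
        rcases hχ with rfl | rfl
        exacts [degree_ne_one hG _ hψ1 hd'.symm, degree_ne_one hG _ hφ1 hd'.symm]
      · rw [if_neg e] at hnz
        by_cases e1 : ψ = χ'
        · rcases hχ with rfl | rfl
          · exact e1.symm
          · exact absurd (e1 ▸ hd') hdne
        · rw [if_neg e1] at hnz
          by_cases e2 : φ = χ'
          · rcases hχ with rfl | rfl
            · exact absurd (e2 ▸ hd').symm hdne
            · exact e2.symm
          · rw [if_neg e2] at hnz; simp at hnz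
    rw [hχ'eq] at hχ'
    exact (congrFun hχ' g).symm
  rcases hδ with rfl | rfl <;> rcases hε with rfl | rfl
  · omega
  · exact ⟨ψ, φ, hne, hψ1, hφ1, by omega, h3d ψ hψB, h3d φ hφB, hgal (by omega)⟩
  · exact ⟨φ, ψ, hne.symm, hφ1, hψ1, by omega, h3d φ hφB, h3d ψ hψB,
      fun χ hχ => hgal (by omega) χ hχ.symm⟩
  · omega

/-- `q ^ j + 1 = 2 ^ i` or `2 ^ i + 1 = q ^ j` forces `j = 1`. -/
theorem exp_one {q j i : ℕ} (hq : q.Prime) (hq2 : q ≠ 2) (hq3 : q ≠ 3) (hj : j ≠ 0)
    (h : q ^ j + 1 = 2 ^ i ∨ 2 ^ i + 1 = q ^ j) : j = 1 := by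
  have hodd : q % 2 = 1 := hq.eq_two_or_odd.resolve_left hq2
  have h3 : 3 ≤ q := by have := hq.two_le; omega
  rcases h with h | h
  · exact (H33.HalfTrans.pow_add_one_two_pow hodd h3 h).resolve_right hj
  · refine (H33.HalfTrans.pow_sub_one_two_pow hodd h3 hq h.symm).resolve_right fun e => hq3 ?_
    have : q ∣ 3 ^ 2 := by norm_num; rw [← e]; exact dvd_pow_self q hj
    exact (Nat.prime_dvd_prime_iff_eq hq Nat.prime_three).1 (hq.dvd_of_dvd_pow this)

/-- The degree data. -/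
theorem Inv.exists_two_q (h : Inv R K) (hG : ¬ IsMulCommutative G) {q a b : ℕ} (hq : q.Prime)
    (hq2 : q ≠ 2) (hq3 : q ≠ 3) (hcard : Nat.card G = 9 * 2 ^ a * q ^ b) :
    b = 1 ∧ ∃ (χ : IrrCharacter G) (i : ℕ), (q + 1 = 2 ^ i ∨ 2 ^ i + 1 = q) ∧
      χ ≠ H12.oneIrr G ∧ charDegree (χ : G → ℂ) = 2 ^ i ∧
      ∀ σ : ℂ ≃+* ℂ, ∀ g, σ ((χ : G → ℂ) g) = (χ : G → ℂ) g := by
  obtain ⟨ψ, φ, hne, hψ1, hφ1, hd, h3ψ, h3φ, hgal⟩ := h.exists_degrees hG
  have hshape : ∀ χ : IrrCharacter G, ¬ 3 ∣ charDegree (χ : G → ℂ) →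
      ∃ i j : ℕ, charDegree (χ : G → ℂ) = 2 ^ i * q ^ j := by
    intro χ h3
    have hdvd : charDegree (χ : G → ℂ) ∣ 9 * (2 ^ a * q ^ b) := by
      rw [← mul_assoc, ← hcard]; exact H24.charDegree_dvd_card χ
    have h9 : Nat.Coprime (charDegree (χ : G → ℂ)) 9 :=
      ((Nat.prime_three.coprime_iff_not_dvd.2 h3).symm.pow_right 2)
    obtain ⟨y, z, hy, hz, he⟩ := exists_dvd_and_dvd_of_dvd_mul (h9.dvd_of_dvd_mul_left hdvd)
    obtain ⟨i, -, hi⟩ := (Nat.dvd_prime_pow Nat.prime_two).1 hy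
    obtain ⟨j, -, hj⟩ := (Nat.dvd_prime_pow hq).1 hz
    exact ⟨i, j, by rw [he, hi, hj]⟩
  obtain ⟨i1, j1, e1⟩ := hshape ψ h3ψ
  obtain ⟨i2, j2, e2⟩ := hshape φ h3φ
  have hψn := degree_ne_one hG ψ hψ1
  have hφn := degree_ne_one hG φ hφ1
  rw [e1, e2] at hd
  rw [e1] at hψn
  rw [e2] at hφn
  have hi0 : i1 = 0 ∨ i2 = 0 := by
    by_contra hc
    have h1 : 2 ∣ 2 ^ i1 * q ^ j1 := dvd_mul_of_dvd_left (dvd_pow_self 2 fun e => hc (Or.inl e)) _
    have h2 : 2 ∣ 2 ^ i2 * q ^ j2 := dvd_mul_of_dvd_left (dvd_pow_self 2 fun e => hc (Or.inr e)) _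
    omega
  have hj0 : j1 = 0 ∨ j2 = 0 := by
    by_contra hc
    have h1 : q ∣ 2 ^ i1 * q ^ j1 := dvd_mul_of_dvd_right (dvd_pow_self q fun e => hc (Or.inl e)) _
    have h2 : q ∣ 2 ^ i2 * q ^ j2 := dvd_mul_of_dvd_right (dvd_pow_self q fun e => hc (Or.inr e)) _
    rw [hd] at h2
    exact hq.ne_one (Nat.dvd_one.1 ((Nat.dvd_add_right h1).1 h2))
  have hfin : ∀ (A B : IrrCharacter G) (i j : ℕ), A ≠ H12.oneIrr G →
      charDegree (A : G → ℂ) = 2 ^ i → charDegree (B : G → ℂ) = q ^ j → j ≠ 0 →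
      (q ^ j + 1 = 2 ^ i ∨ 2 ^ i + 1 = q ^ j) → (A = ψ ∨ A = φ) →
      b = 1 ∧ ∃ (χ : IrrCharacter G) (i : ℕ), (q + 1 = 2 ^ i ∨ 2 ^ i + 1 = q) ∧
      χ ≠ H12.oneIrr G ∧ charDegree (χ : G → ℂ) = 2 ^ i ∧
      ∀ σ : ℂ ≃+* ℂ, ∀ g, σ ((χ : G → ℂ) g) = (χ : G → ℂ) g := by
    intro A B i j hA hAd hBd hj hrel hAm
    have hj1 := exp_one hq hq2 hq3 hj hrel
    subst hj1
    rw [pow_one] at hrel hBd
    refine ⟨?_, A, i, hrel, hA, hAd, hgal A hAm⟩
    haveI : Fact q.Prime := ⟨hq⟩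
    obtain ⟨Q⟩ : Nonempty (Sylow q G) := inferInstance
    have hQ := sylow_le_of_degree_prime hG B hBd Q
    have hnd : ¬ q ∣ 9 * 2 ^ a := by
      intro hd'
      rcases hq.dvd_mul.1 hd' with e | e
      · exact hq3 ((Nat.prime_dvd_prime_iff_eq hq Nat.prime_three).1
          (hq.dvd_of_dvd_pow (show q ∣ 3 ^ 2 by norm_num; exact e)))
      · exact hq2 ((Nat.prime_dvd_prime_iff_eq hq Nat.prime_two).1 (hq.dvd_of_dvd_pow e))
    have hQc := H62.card_sylow_coe (a := b) (m := 9 * 2 ^ a) (by rw [hcard]; ring) hnd Q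
    rw [hQc] at hQ
    have hb1 : b ≤ 1 := by
      have := Nat.le_of_dvd hq.pos hQ
      by_contra hb
      have h2 : q ^ 1 < q ^ b := Nat.pow_lt_pow_right hq.one_lt (by omega)
      rw [pow_one] at h2; omega
    have hb0 : b ≠ 0 := by
      rintro rfl
      have : q ∣ Nat.card G := hBd ▸ H24.charDegree_dvd_card B
      rw [hcard, pow_zero, mul_one] at this
      exact hnd this
    omega
  rcases hi0 with rfl | rfl <;> rcases hj0 with rfl | rfl
  · simp at hψn
  · simp only [pow_zero, one_mul, mul_one] at hd e1 e2 hψn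
    exact hfin φ ψ i2 j1 hφ1 e2 e1 (fun e => hψn (by simp [e])) (Or.inl hd.symm) (Or.inr rfl)
  · simp only [pow_zero, one_mul, mul_one] at hd e1 e2 hφn
    exact hfin ψ φ i1 j2 hψ1 e1 e2 (fun e => hφn (by simp [e])) (Or.inr hd.symm) (Or.inl rfl)
  · simp at hφn

end H59.Nine
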