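import Cfsg.Agent.H59.Nine.Third
import Cfsg.Agent.H14.BrauerInduction
import Cfsg.Agent.H12.Monomial
import Cfsg.Agent.H33.Basic

/-!
The function three on the third of the group is a generalised character of norm three.
-/

set_option autoImplicit false
set_option linter.style.haveILetI false
set_option linter.unusedSectionVars false
set_option linter.unusedVariables false
set_option maxHeartbeats 1000000

open Cfsg
open scoped ComplexConjugate Classical

namespace H59.Nine

open Subgroup Finset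

universe u

variable {G : Type u} [Group G] [Fintype G] [hp3 : Fact (Nat.Prime 3)] {R : Sylow 3 G} {K : Subgroup G}

/-- the lift -/
noncomputable def lift3 (R : Sylow 3 G) (K : Subgroup G) : G → ℂ :=
  fun g => if g ∈ third R K then 3 else 0

/-- some element of the normaliser moves `R / K` -/
theorem Inv.exists_move (h : Inv R K) [IsSimpleGroup G] (hG : ¬ IsMulCommutative G) :
    ∃ n ∈ normalizer ((R : Subgroup G) : Set G), n ∉ ker0 R K := by
  by_contra hno
  haveI := h.isMulCommutative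
  haveI : (K.subgroupOf (R : Subgroup G)).Normal := ⟨fun x hx g => by
    have e : g * x * g⁻¹ = x := by
      apply Subtype.ext
      show (g : G) * x * (g : G)⁻¹ = x
      rw [h.comm g.2 x.2]; group
    rw [e]; exact hx⟩
  set Q := (R : Subgroup G) ⧸ K.subgroupOf (R : Subgroup G)
  haveI : IsMulCommutative Q := ⟨⟨fun a b => by
    obtain ⟨a, rfl⟩ := QuotientGroup.mk_surjective a
    obtain ⟨b, rfl⟩ := QuotientGroup.mk_surjective b
    rw [← QuotientGroup.mk_mul, ← QuotientGroup.mk_mul]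
    congr 1
    exact Subtype.ext (h.comm a.2 b.2)⟩⟩
  letI : CommGroup Q := { (inferInstance : Group Q) with mul_comm := fun a b => mul_comm' a b }
  let φ : (R : Subgroup G) →* Q := QuotientGroup.mk' _
  let τ : G →* Q := MonoidHom.transfer φ
  have hker : τ.ker = ⊤ := by
    rcases (inferInstance : (τ.ker).Normal).eq_bot_or_eq_top with e | e
    · exfalso; apply hG
      refine ⟨⟨fun a b => (τ.ker_eq_bot_iff.1 e) ?_⟩⟩
      rw [map_mul, map_mul, mul_comm]
    · exact e
  obtain ⟨x, hx⟩ : (outK R K).Nonempty := card_pos.1 (by rw [h.card_outK]; norm_num)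
  rw [mem_outK] at hx
  have h1 : τ x = 1 := MonoidHom.mem_ker.1 (hker ▸ mem_top x)
  have h2 : τ x = φ ⟨x, hx.1⟩ ^ (R : Subgroup G).index := by
    letI : Fintype (Quotient (MulAction.orbitRel (zpowers x) (G ⧸ (R : Subgroup G)))) :=
      Fintype.ofFinite _
    rw [MonoidHom.transfer_eq_prod_quotient_orbitRel_zpowers_quot, index_eq_sum_minimalPeriod _ x,
      ← Finset.prod_pow_eq_pow_sum]
    refine Finset.prod_congr rfl fun q _ => ?_
    rw [← map_pow]
    set k := Function.minimalPeriod (x • ·) q.out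
    set g0 := q.out.out
    have hmem : g0⁻¹ * x ^ k * g0 ∈ (R : Subgroup G) :=
      QuotientGroup.out_conj_pow_minimalPeriod_mem _ x q.out
    obtain ⟨n, hn, e⟩ := R.conj_eq_normalizer_conj_of_mem (x ^ k) g0 (pow_mem hx.1 k) hmem
    refine (QuotientGroup.eq_iff_div_mem (N := K.subgroupOf (R : Subgroup G))).2 ?_
    rw [Subgroup.mem_subgroupOf]
    show (g0⁻¹ * x ^ k * g0) / ((⟨x, hx.1⟩ : (R : Subgroup G)) ^ k : (R : Subgroup G)) ∈ K
    rw [SubgroupClass.coe_pow, e, div_eq_mul_inv]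
    have hk : n⁻¹ ∈ ker0 R K := by
      by_contra hc
      exact hno ⟨n⁻¹, inv_mem hn, hc⟩
    simpa using hk.2 (x ^ k) (pow_mem hx.1 k)
  rw [h1] at h2
  have hcop : Nat.Coprime 3 (R : Subgroup G).index :=
    (Nat.Prime.coprime_iff_not_dvd hp3.out).2 R.not_dvd_index
  have h3 : φ ⟨x, hx.1⟩ ^ 3 = 1 := by
    have hQ : Nat.card Q = 3 := by
      have h1 := Subgroup.card_mul_index (K.subgroupOf (R : Subgroup G))
      rw [Nat.card_congr (Subgroup.subgroupOfEquivOfLe h.le).toEquiv, h.cardK, h.card] at h1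
      rw [← Subgroup.index_eq_card]; omega
    exact orderOf_dvd_iff_pow_eq_one.1 ((_root_.orderOf_dvd_natCard _).trans hQ.dvd)
  have h4 : φ ⟨x, hx.1⟩ = 1 := by
    rw [← orderOf_eq_one_iff]
    have hd := Nat.dvd_gcd (orderOf_dvd_of_pow_eq_one h3) (orderOf_dvd_of_pow_eq_one h2.symm)
    rw [hcop.gcd_eq_one] at hd
    exact Nat.dvd_one.1 hd
  exact hx.2 (Subgroup.mem_subgroupOf.1 ((QuotientGroup.eq_one_iff (⟨x, hx.1⟩ : (R : Subgroup G))).1 h4))

theorem lift3_classFunction : IsClassFunction G (lift3 R K) := by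
  intro g c
  unfold lift3
  have e : (c * g * c⁻¹ ∈ third R K) ↔ g ∈ third R K := by
    simp only [third, mem_filter, mem_univ, true_and, H20.pPart_conj]
    refine exists_congr fun x => and_congr_right fun _ => ⟨fun hh => hh.trans ?_, fun hh => hh.trans ?_⟩
    · exact (isConj_iff.2 ⟨c, rfl⟩).symm
    · exact isConj_iff.2 ⟨c, rfl⟩
  simp only [e]

theorem third_iff_mem (h : Inv R K) {g r : G} (hr : r ∈ (R : Subgroup G))
    (hc : IsConj r (H20.pPart 3 g)) : g ∈ third R K ↔ r ∉ K := by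
  simp only [third, mem_filter, mem_univ, true_and]
  refine ⟨fun ⟨x, hx, hxc⟩ hrK => ?_, fun e => ⟨r, mem_outK.2 ⟨hr, e⟩, hc⟩⟩
  rw [mem_outK] at hx
  obtain ⟨n, hn, e⟩ := (conj_iff_normalizer h hx.1 hr).1 (hxc.trans hc.symm)
  exact h.conj_notMem hn hx.2 (e ▸ hrK)

theorem exists_mul_of_mem_sup {H : Type*} [Group H] {A N : Subgroup H} [N.Normal] {x : H}
    (hx : x ∈ A ⊔ N) : ∃ a ∈ A, ∃ b ∈ N, a * b = x := by
  rw [← SetLike.mem_coe, Subgroup.mul_normal] at hx
  exact hx

theorem Inv.lift3_gen (h : Inv R K) : IsGeneralizedCharacter G (lift3 R K) := by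
  refine H14.isGeneralizedCharacter_of_elementary _ lift3_classFunction fun E q hq hE => ?_
  rw [H12.isGeneralizedCharacter_iff]
  refine ⟨fun a b => lift3_classFunction (R := R) (K := K) (a : G) (b : G), fun χ => ?_⟩
  haveI := H12.IsElementary.isNilpotent hq hE
  obtain ⟨P⟩ : Nonempty (Sylow 3 E) := inferInstance
  haveI : (P : Subgroup E).Normal :=
    Sylow.normal_of_normalizerCondition Group.normalizerCondition_of_isNilpotent P
  obtain ⟨K0, hK0⟩ := Subgroup.exists_right_complement'_of_coprime P.card_coprime_index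
  have hKc : ¬ 3 ∣ Nat.card K0 := by
    rw [← Subgroup.IsComplement'.index_eq_card hK0.symm]
    exact P.not_dvd_index
  have hcom : ∀ a ∈ (P : Subgroup E), ∀ b ∈ K0, Commute a b := fun a ha b hb =>
    H33.commute_of_nilpotent (p := 3) (by
      obtain ⟨j, hj⟩ := IsPGroup.iff_orderOf.1 P.2 ⟨a, ha⟩
      exact ⟨j, by rwa [Subgroup.orderOf_mk] at hj⟩) fun hd => hKc (hd.trans (K0.orderOf_dvd_natCard hb))
  haveI : K0.Normal := Subgroup.normalizer_eq_top_iff.1 <| top_unique <| by
    rw [← hK0.sup_eq_top]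
    refine sup_le (fun a ha => Subgroup.mem_normalizer_iff.2 fun b => ⟨fun hb => ?_, fun hb => ?_⟩)
      Subgroup.le_normalizer
    · rwa [(hcom a ha b hb).eq, mul_inv_cancel_right]
    · have := hcom a⁻¹ (inv_mem ha) _ hb
      have e : b = a⁻¹ * (a * b * a⁻¹) * a := by group
      rw [e, this.eq, mul_assoc, inv_mul_cancel, mul_one]; exact hb
  -- conjugate the `3`-part into `R`
  have hPG : IsPGroup 3 ((P : Subgroup E).map E.subtype) := P.2.map _
  obtain ⟨P', hP'⟩ := hPG.exists_le_sylow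
  obtain ⟨c, hc⟩ := MulAction.exists_smul_eq G P' R
  have hcR : ∀ a ∈ (P : Subgroup E), c * (a : G) * c⁻¹ ∈ (R : Subgroup G) := by
    intro a ha
    have h1 := Subgroup.smul_mem_pointwise_smul (a : G) (MulAut.conj c) _
      (hP' (Subgroup.mem_map_of_mem E.subtype ha))
    rw [← hc, Sylow.coe_subgroup_smul]
    simpa using h1
  set M : Subgroup E :=
    (((K.comap (MulAut.conj c).toMonoidHom).comap E.subtype) ⊓ (P : Subgroup E)) ⊔ K0 with hM
  have hp : ∀ e : E, H20.pPart 3 e ∈ (P : Subgroup E) ∧ H20.qPart 3 e ∈ K0 := by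
    intro e
    refine ⟨?_, ?_⟩
    · obtain ⟨j, hj⟩ := H20.exists_orderOf_pPart (p := 3) e
      have hg : IsPGroup 3 (zpowers (H20.pPart 3 e)) :=
        IsPGroup.of_card (n := j) (by rw [Nat.card_zpowers, hj])
      have hle : zpowers (H20.pPart 3 e) ≤ Subgroup.normalizer ((P : Subgroup E) : Set E) :=
        fun a _ => by rw [Subgroup.normalizer_eq_top_iff.2 (inferInstance : (P : Subgroup E).Normal)]; exact mem_top a
      have h1 := P.3 (IsPGroup.to_sup_of_normal_right' hg P.2 hle) le_sup_right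
      rw [← h1]
      exact le_sup_left (b := (P : Subgroup E)) (mem_zpowers (H20.pPart 3 e))
    · have hsup : H20.qPart 3 e ∈ (P : Subgroup E) ⊔ K0 := by rw [hK0.sup_eq_top]; exact mem_top _
      obtain ⟨a, ha, b, hb, hab⟩ := exists_mul_of_mem_sup hsup
      have ha3 : ∃ j : ℕ, orderOf a = 3 ^ j := by
        obtain ⟨j, hj⟩ := IsPGroup.iff_orderOf.1 P.2 ⟨a, ha⟩
        exact ⟨j, by rwa [Subgroup.orderOf_mk] at hj⟩
      obtain ⟨e1, e2⟩ := H20.isPPart_unique' hab (hcom a ha b hb) ha3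
        fun hd => hKc (hd.trans (K0.orderOf_dvd_natCard hb))
      have : a = 1 := by
        rw [e1]; exact H20.pPart_eq_one_iff.2 (H20.not_dvd_orderOf_qPart e)
      rw [← hab, this, one_mul]; exact hb
  have hpart : ∀ e : E, ((H20.pPart 3 e : E) : G) = H20.pPart 3 (e : G) := fun e =>
    (H20.isPPart_unique' (p := 3) (g := (e : G)) (x := ((H20.pPart 3 e : E) : G))
      (y := ((H20.qPart 3 e : E) : G))
      (by rw [← Subgroup.coe_mul, H20.pPart_mul_qPart])
      ((H20.commute_pPart_qPart e).map E.subtype)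
      (by rw [Subgroup.orderOf_coe]; exact H20.exists_orderOf_pPart e)
      (by rw [Subgroup.orderOf_coe]; exact H20.not_dvd_orderOf_qPart e)).1
  have hMiff : ∀ e : E, (e : G) ∈ third R K ↔ e ∉ M := by
    intro e
    rw [third_iff_mem h (hcR _ (hp e).1) ((isConj_iff.2 ⟨c, rfl⟩ :
      IsConj ((H20.pPart 3 e : E) : G) _).symm.trans (by rw [hpart]))]
    refine not_congr ⟨fun hk => ?_, fun he => ?_⟩
    · rw [← H20.pPart_mul_qPart (p := 3) e]
      exact mul_mem (Subgroup.mem_sup_left ⟨show c * ((H20.pPart 3 e : E) : G) * c⁻¹ ∈ K from hk, (hp e).1⟩)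
        (Subgroup.mem_sup_right (hp e).2)
    · obtain ⟨a, ha, b, hb, hab⟩ := exists_mul_of_mem_sup he
      have ha3 : ∃ j : ℕ, orderOf a = 3 ^ j := by
        obtain ⟨j, hj⟩ := IsPGroup.iff_orderOf.1 P.2 ⟨a, ha.2⟩
        exact ⟨j, by rwa [Subgroup.orderOf_mk] at hj⟩
      obtain ⟨e1, -⟩ := H20.isPPart_unique' hab (hcom a ha.2 b hb) ha3
        fun hd => hKc (hd.trans (K0.orderOf_dvd_natCard hb))
      rw [← e1]
      exact ha.1
  -- `M` has index one or three
  have hidx : M.index ∣ 3 := by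
    haveI : (K.subgroupOf (R : Subgroup G)).Normal := ⟨fun x hx g => by
      have e : g * x * g⁻¹ = x := by
        apply Subtype.ext
        show (g : G) * x * (g : G)⁻¹ = x
        rw [h.comm g.2 x.2]; group
      rw [e]; exact hx⟩
    let f : (P : Subgroup E) →* (R : Subgroup G) ⧸ K.subgroupOf (R : Subgroup G) :=
      (QuotientGroup.mk' _).comp
        (MonoidHom.codRestrict (((MulAut.conj c).toMonoidHom.comp E.subtype).comp
          (P : Subgroup E).subtype) _ fun a => by simpa using hcR a a.2)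
    set A := ((K.comap (MulAut.conj c).toMonoidHom).comap E.subtype) ⊓ (P : Subgroup E)
    have hfk : f.ker = A.subgroupOf (P : Subgroup E) := by
      ext a
      rw [MonoidHom.mem_ker, Subgroup.mem_subgroupOf]
      show (QuotientGroup.mk _ : (R : Subgroup G) ⧸ _) = 1 ↔ _
      rw [QuotientGroup.eq_one_iff, Subgroup.mem_subgroupOf]
      exact ⟨fun hh => ⟨hh, a.2⟩, fun hh => hh.1⟩
    have h1 : (A.subgroupOf (P : Subgroup E)).index ∣ 3 := by
      rw [← hfk, Subgroup.index_ker]
      have hQ : Nat.card ((R : Subgroup G) ⧸ K.subgroupOf (R : Subgroup G)) = 3 := by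
        have h1 := Subgroup.card_mul_index (K.subgroupOf (R : Subgroup G))
        rw [Nat.card_congr (Subgroup.subgroupOfEquivOfLe h.le).toEquiv, h.cardK, h.card] at h1
        rw [← Subgroup.index_eq_card]; omega
      exact (Subgroup.card_subgroup_dvd_card _).trans hQ.dvd
    have hAP : A ≤ (P : Subgroup E) := inf_le_right
    have hinf : A ⊓ K0 = ⊥ := by
      rw [eq_bot_iff]; exact (inf_le_inf_right _ hAP).trans hK0.disjoint.le_bot
    have hMc : Nat.card M = Nat.card A * Nat.card K0 := by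
      have hcomp : (A.subgroupOf M).IsComplement' (K0.subgroupOf M) := by
        refine Subgroup.isComplement'_of_disjoint_and_mul_eq_univ ?_ ?_
        · rw [disjoint_iff, eq_bot_iff]
          intro x hx
          rw [Subgroup.mem_inf, Subgroup.mem_subgroupOf, Subgroup.mem_subgroupOf, ← Subgroup.mem_inf,
            hinf, Subgroup.mem_bot] at hx
          exact Subgroup.mem_bot.2 (Subtype.ext hx)
        · refine Set.eq_univ_of_forall fun x => ?_
          obtain ⟨a, ha, b, hb, hab⟩ := exists_mul_of_mem_sup x.2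
          exact ⟨⟨a, Subgroup.mem_sup_left ha⟩, ha, ⟨b, Subgroup.mem_sup_right hb⟩, hb, Subtype.ext hab⟩
      rw [← hcomp.card_mul_card, Nat.card_congr (Subgroup.subgroupOfEquivOfLe le_sup_left).toEquiv,
        Nat.card_congr (Subgroup.subgroupOfEquivOfLe le_sup_right).toEquiv]
    have hPc : Nat.card A * (A.subgroupOf (P : Subgroup E)).index = Nat.card (P : Subgroup E) := by
      rw [← Nat.card_congr (Subgroup.subgroupOfEquivOfLe hAP).toEquiv, Subgroup.card_mul_index]
    have hE : Nat.card M * M.index = Nat.card M * (A.subgroupOf (P : Subgroup E)).index := by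
      rw [Subgroup.card_mul_index, hMc, mul_right_comm, hPc, hK0.card_mul_card]
    rw [Nat.eq_of_mul_eq_mul_left Nat.card_pos hE]
    exact h1
  obtain ⟨n1, hn1⟩ := H12.IsCharacter.classInner_nat (G := E) H12.isCharacter_one (H12.isCharacter_irr χ)
  obtain ⟨n2, hn2⟩ := H12.IsCharacter.classInner_nat (G := M) H12.isCharacter_one
    (H12.IsCharacter.res (H12.isCharacter_irr χ) M)
  obtain ⟨t, ht⟩ := hidx
  refine ⟨3 * n1 - t * n2, ?_⟩
  have hsum : ∑ e : E, (lift3 R K (e : G)) * conj ((χ : E → ℂ) e) =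
      3 * ∑ e : E, conj ((χ : E → ℂ) e) - 3 * ∑ e : M, conj ((χ : E → ℂ) (e : E)) := by
    rw [mul_sum, mul_sum, ← Finset.sum_subtype (univ.filter fun e : E => e ∈ M) (by simp)
      (fun e => 3 * conj ((χ : E → ℂ) e)), sum_filter, ← sum_sub_distrib]
    refine sum_congr rfl fun e _ => ?_
    by_cases he : e ∈ M
    · rw [if_pos he, lift3, if_neg (fun hh => (hMiff e).1 hh he)]; ring
    · rw [if_neg he, lift3, if_pos ((hMiff e).2 he)]; ring
  have hM0 : (Nat.card M : ℂ) ≠ 0 := by exact_mod_cast Nat.card_pos.ne'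
  have hE0 : (Nat.card E : ℂ) ≠ 0 := by exact_mod_cast Nat.card_pos.ne'
  rw [classInner] at hn1 hn2 ⊢
  simp only [one_mul] at hn1 hn2
  rw [inv_mul_eq_iff_eq_mul₀ hE0] at hn1
  rw [inv_mul_eq_iff_eq_mul₀ hM0] at hn2
  rw [inv_mul_eq_iff_eq_mul₀ hE0, hsum, hn1, hn2]
  have hcard : (Nat.card E : ℂ) = Nat.card M * M.index := by
    exact_mod_cast (Subgroup.card_mul_index M).symm
  rw [hcard]
  have hidx3 : (3 : ℂ) = M.index * t := by exact_mod_cast ht
  push_cast
  linear_combination (Nat.card M : ℂ) * (n2 : ℂ) * (-1 : ℂ) * hidx3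

theorem Inv.inner_one (h : Inv R K) [IsSimpleGroup G] (hG : ¬ IsMulCommutative G) :
    classInner (lift3 R K) (fun _ => 1) = 1 ∧ classInner (lift3 R K) (lift3 R K) = 3 := by
  have hc := h.card_third (h.exists_move hG)
  have hG0 : (Nat.card G : ℂ) ≠ 0 := by exact_mod_cast Nat.card_pos.ne'
  have hc' : (3 : ℂ) * (third R K).card = Nat.card G := by exact_mod_cast hc
  constructor
  · rw [classInner, inv_mul_eq_iff_eq_mul₀ hG0, mul_one, ← hc']
    simp only [lift3, map_one, mul_one, sum_ite_mem, univ_inter, sum_const, nsmul_eq_mul]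
    ring
  · rw [classInner, inv_mul_eq_iff_eq_mul₀ hG0, ← hc']
    have : ∀ g, lift3 R K g * conj (lift3 R K g) = if g ∈ third R K then 9 else 0 := by
      intro g; unfold lift3; split_ifs <;> norm_num [map_ofNat]
    simp only [this, sum_ite_mem, univ_inter, sum_const, nsmul_eq_mul]
    ring

theorem Inv.lift3_one (h : Inv R K) : lift3 R K 1 = 0 := by
  unfold lift3
  rw [if_neg]
  intro h1
  simp only [third, mem_filter, mem_univ, true_and] at h1
  obtain ⟨x, hx, hxc⟩ := h1
  rw [mem_outK] at hx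
  obtain ⟨c, hc⟩ := isConj_iff.1 hxc
  rw [H20.pPart_eq_one_iff.2 (by rw [orderOf_one]; norm_num)] at hc
  exact hx.2 ((conj_eq_one_iff.1 hc) ▸ K.one_mem)

/-- the two nonprincipal constituents -/
theorem Inv.exists_pair (h : Inv R K) [IsSimpleGroup G] (hG : ¬ IsMulCommutative G) :
    ∃ (ψ φ : IrrCharacter G) (δ ε : ℤ), ψ ≠ φ ∧ ψ ≠ H12.oneIrr G ∧ φ ≠ H12.oneIrr G ∧
      (δ = 1 ∨ δ = -1) ∧ (ε = 1 ∨ ε = -1) ∧
      ∀ g, lift3 R K g = 1 + (δ : ℂ) * (ψ : G → ℂ) g + (ε : ℂ) * (φ : G → ℂ) g := by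
  obtain ⟨hf, hz⟩ := H12.isGeneralizedCharacter_iff.mp h.lift3_gen
  choose z hz using hz
  obtain ⟨h1, h3⟩ := h.inner_one hG
  have hz1 : z (H12.oneIrr G) = 1 := by
    have := hz (H12.oneIrr G)
    rw [show ((H12.oneIrr G : IrrCharacter G) : G → ℂ) = fun _ => 1 from funext fun g => H12.oneIrr_apply G g, h1] at this
    exact_mod_cast this.symm
  have hsum : ∑ χ, z χ * z χ = 3 := by
    have := H12.classInner_eq_sum_mul hf hf
    simp only [h3, hz, map_intCast] at this
    exact_mod_cast this.symm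
  rw [← add_sum_erase _ _ (mem_univ (H12.oneIrr G)), hz1] at hsum
  set S := ((univ : Finset (IrrCharacter G)).erase (H12.oneIrr G)).filter fun χ => z χ ≠ 0
  have hS : ∑ χ ∈ S, z χ * z χ = 2 := by
    rw [sum_filter_of_ne]
    · omega
    · intro χ _ hne h0
      exact hne (by rw [h0, mul_zero])
  have hpm : ∀ χ ∈ S, z χ = 1 ∨ z χ = -1 := by
    intro χ hχ
    have hle : z χ * z χ ≤ 2 := hS ▸ single_le_sum (f := fun ψ => z ψ * z ψ)
      (fun ψ _ => mul_self_nonneg _) hχ
    have hne : z χ ≠ 0 := (mem_filter.1 hχ).2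
    have h1 : -2 < z χ := by nlinarith
    have h2 : z χ < 2 := by nlinarith
    omega
  have hc : S.card = 2 := by
    rw [sum_congr rfl (g := fun _ => (1 : ℤ)) (fun χ hχ => by
      rcases hpm χ hχ with e | e <;> simp [e])] at hS
    simp at hS
    exact_mod_cast hS
  obtain ⟨ψ, φ, hne, he⟩ := card_eq_two.1 hc
  have hψ : ψ ∈ S := by rw [he]; simp
  have hφ : φ ∈ S := by rw [he]; simp
  refine ⟨ψ, φ, z ψ, z φ, hne, (mem_erase.1 (mem_filter.1 hψ).1).1, (mem_erase.1 (mem_filter.1 hφ).1).1,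
    hpm ψ hψ, hpm φ hφ, fun g => ?_⟩
  have hd := congrFun (H12.classFunction_eq_sum hf) g
  rw [Finset.sum_apply, ← add_sum_erase _ _ (mem_univ (H12.oneIrr G)),
    ← sum_filter_of_ne (p := fun χ => z χ ≠ 0)] at hd
  · rw [hd]
    show _ + ∑ χ ∈ S, _ = _
    rw [he, sum_pair hne]
    simp only [Pi.smul_apply, smul_eq_mul, hz, hz1, H12.oneIrr_apply]
    push_cast; ring
  · intro χ _ hne h0
    apply hne
    simp [hz, h0]

end H59.Nine
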