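import Cfsg.Agent.H65.PSLSmall

/-!
The simple group of order `2448`.
-/

set_option autoImplicit false
set_option synthInstance.maxSize 2048
set_option synthInstance.maxHeartbeats 200000

namespace H59.Nine

open Subgroup H65

instance instFactPrimeSeventeen : Fact (Nat.Prime 17) := ⟨by norm_num⟩

theorem checkW_17 : CheckW (p := 17) 3 [0, 0, 14, 1, 12, 5, 15, 11, 10, 2, 3, 7, 13, 4, 9, 6, 8] (none) := by
  unfold CheckW
  decide +kernel

variable {G : Type*} [Group G] [Finite G] [IsSimpleGroup G]

theorem psl_two_seventeen_of_card (h : Nat.card G = 2448) {F : Type*} [Field F] [Fintype F]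
    (hF : Fintype.card F = 17) :
    Nonempty (G ≃* Matrix.ProjectiveSpecialLinearGroup (Fin 2) F) := by
  have hG : ¬ IsMulCommutative G := H62.not_comm_of_not_prime (by rw [h]; norm_num)
  have hk := sylow_candidate (p := 17) (a := 1) (m := 144) hG h (by norm_num) (by norm_num) one_pos
  rw [show (Nat.divisors 144).filter (fun d => d % 17 = 1 ∧ 1 < d ∧ (2 * 2448 ∣ d.factorial)) = {18}
        from by decide +kernel, Finset.mem_singleton] at hk
  exact psl_two_of_order _ _ _ checkW_17 (fun e he => nomatch he)
    (Or.inr rfl) (by decide) hG (by norm_num) hk (by rw [h]; norm_num) hF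

end H59.Nine
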