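import Cfsg.Agent.H59.Nine.Seventeen
import Cfsg.Agent.H59.Nine.Order2448
import Cfsg.Agent.H59.Nine.AltSix
import Cfsg.Agent.H62.Order504
import Cfsg.Agent.H65.Order360
import Cfsg.Agent.H65.SmallCases

/-!
Simple groups of order `9 · 2 ^ a · q ^ b` with a Sylow `3`-subgroup having an invariant subgroup of
order three.
-/

set_option autoImplicit false
set_option linter.style.haveILetI false

open Cfsg

namespace H59.Nine

universe u

variable {G : Type u} [Group G] [Finite G] [IsSimpleGroup G]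

theorem order_cases (hG : ¬ IsMulCommutative G) {q a b : ℕ} (hq : q.Prime) (hq2 : q ≠ 2) (hq3 : q ≠ 3)
    (hcard : Nat.card G = 9 * 2 ^ a * q ^ b) {R : Sylow 3 G} {K : Subgroup G} (h : Inv R K) :
    Nat.card G = 360 ∨ Nat.card G = 504 ∨ Nat.card G = 2448 := by
  haveI := Fintype.ofFinite G
  haveI : Fact (Nat.Prime 3) := ⟨Nat.prime_three⟩
  haveI : Fact q.Prime := ⟨hq⟩
  obtain ⟨rfl, χ, i, hrel, hχ1, hχd, hχg⟩ := h.exists_two_q hG hq hq2 hq3 hcard
  rw [pow_one] at hcard
  obtain ⟨P⟩ : Nonempty (Sylow q G) := inferInstance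
  obtain ⟨hP, hC, e, m, hed, he1, hem, hm, hN⟩ := exists_index hG hq2 hq3 hcard P
  obtain ⟨d, hd, hd19, hcong⟩ := exists_odd_degree hG hq2 hq3 hcard hed hP hC hN
  have hq19 : q ≤ 19 := by omega
  have hi : i ≤ 4 := by
    by_contra hc
    have : 2 ^ 5 ≤ 2 ^ i := Nat.pow_le_pow_right (by norm_num) (by omega)
    omega
  have hq5 : 5 ≤ q := by
    have := hq.two_le
    rcases Nat.lt_or_ge q 5 with h5 | h5
    · interval_cases q <;> simp_all (config := {decide := true})
    · exact h5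
  have hcases : (q = 5 ∧ i = 2) ∨ (q = 7 ∧ i = 3) ∨ (q = 17 ∧ i = 4) := by
    interval_cases i <;> norm_num at hrel <;> rcases hrel with h1 | h1 <;>
      first
      | omega
      | (exfalso; have : q = 9 ∨ q = 15 := by omega
         rcases this with rfl | rfl <;> norm_num at hq)
  rcases hcases with ⟨rfl, rfl⟩ | ⟨rfl, rfl⟩ | ⟨rfl, rfl⟩
  · exact Or.inl (five_case hG hcard χ hχ1 (by rw [hχd]; norm_num) hχg)
  · exact Or.inr (Or.inl (seven_case hG hcard))
  · exact Or.inr (Or.inr (seventeen_case hG hcard χ hχ1 (by rw [hχd]; norm_num)))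

end H59.Nine
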