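import Cfsg.Agent.H59.Nine.Degrees
import Cfsg.Agent.H62.DihedralCases
import Cfsg.Agent.H62.SelfCentralNumber
import Cfsg.Agent.H65.SmallSimple2
import Cfsg.Agent.H65.Order720
import Cfsg.Agent.H17.SchurBound
import Cfsg.Agent.S4441
import Cfsg.Agent.S4503

/-!
Simple groups of order `9 · 2 ^ a · q`.
-/

set_option autoImplicit false
set_option linter.style.haveILetI false
set_option linter.unusedSectionVars false

open Cfsg
open scoped Classical

namespace H59.Nine

open Finset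

universe u

/-- the degree data with the congruence -/
def DegCong (q e d : ℕ) : Prop :=
  (d : ℤ) ≡ 1 [ZMOD q] ∨ (d : ℤ) ≡ -1 [ZMOD q] ∨ (d : ℤ) ≡ e [ZMOD q] ∨ (d : ℤ) ≡ -(e : ℤ) [ZMOD q]

variable {G : Type u} [Group G] [Fintype G] [IsSimpleGroup G]

/-- the normaliser index at `q` -/
theorem exists_index (hG : ¬ IsMulCommutative G) {q a : ℕ} [hq : Fact q.Prime] (hq2 : q ≠ 2) (hq3 : q ≠ 3)
    (hcard : Nat.card G = 9 * 2 ^ a * q) (P : Sylow q G) :
    Nat.card (P : Subgroup G) = q ∧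
      Subgroup.centralizer ((P : Subgroup G) : Set G) = (P : Subgroup G) ∧
      ∃ e m : ℕ, e ∣ q - 1 ∧ 1 < e ∧ e * m = 9 * 2 ^ a ∧ m % q = 1 ∧
        Nat.card (Subgroup.normalizer ((P : Subgroup G) : Set G)) = q * e := by
  have hnc : Nat.card G = 2 ^ a * 3 ^ 2 * q := by rw [hcard]; ring
  have hnp : ¬ (2 ^ a * 3 ^ 2 * q).Prime := fun h => by
    have h9 : q ∣ 2 ^ a * 3 ^ 2 * q := dvd_mul_left _ _
    rcases (Nat.dvd_prime h).1 h9 with e | e
    · exact hq.out.ne_one e
    · have : 9 * q ≤ 2 ^ a * 3 ^ 2 * q := Nat.mul_le_mul_right q (by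
        have := Nat.one_le_two_pow (n := a); nlinarith)
      have := hq.out.pos
      omega
  obtain ⟨hP, hC, e, he, hN⟩ := H62.normalizer_threePrimes (p := 2) (q := 3) (r := q) Nat.prime_two
    Nat.prime_three (by norm_num) (Ne.symm hq2) (Ne.symm hq3) hnc hnp P
  rw [H62.selfCentralIndices, mem_filter, Nat.mem_divisors] at he
  obtain ⟨⟨hed, -⟩, he1, hdvd, hmod⟩ := he
  obtain ⟨m, hm⟩ := Nat.dvd_of_mod_eq_zero hdvd
  refine ⟨hP, hC, e, m, hed, he1, ?_, ?_, hN⟩
  · apply Nat.eq_of_mul_eq_mul_left hq.out.pos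
    rw [← mul_assoc, ← hm]; ring
  · rwa [hm, Nat.mul_div_cancel_left _ (Nat.mul_pos hq.out.pos (by omega))] at hmod

/-- the principal block at `q` gives a small odd degree -/
theorem exists_odd_degree (hG : ¬ IsMulCommutative G) {q a : ℕ} [hq : Fact q.Prime] (hq2 : q ≠ 2)
    (hq3 : q ≠ 3) (hcard : Nat.card G = 9 * 2 ^ a * q) {e : ℕ} (he : e ∣ q - 1) {P : Sylow q G}
    (hP : Nat.card (P : Subgroup G) = q)
    (hC : Subgroup.centralizer ((P : Subgroup G) : Set G) = (P : Subgroup G))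
    (hN : Nat.card (Subgroup.normalizer ((P : Subgroup G) : Set G)) = q * e) :
    ∃ d : ℕ, (d = 3 ∨ d = 9) ∧ q ≤ 2 * d + 1 ∧ DegCong q e d := by
  obtain ⟨M, hM⟩ := H22.exists_isPModular q hq.out
  haveI := H20.isPrime_of_modular hM
  have hrel : (Subgroup.centralizer ((P : Subgroup G) : Set G)).relIndex
      (Subgroup.normalizer ((P : Subgroup G) : Set G)) = e := by
    rw [hC, Subgroup.relIndex]
    have h1 := Subgroup.card_mul_index
      ((P : Subgroup G).subgroupOf (Subgroup.normalizer ((P : Subgroup G) : Set G)))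
    rw [Nat.card_congr (Subgroup.subgroupOfEquivOfLe Subgroup.le_normalizer).toEquiv, hP, hN] at h1
    exact Nat.eq_of_mul_eq_mul_left hq.out.pos h1
  obtain ⟨X, Y, hB, hXY, -, hY, εX, ε, hX, hε, hYc, -, hreg⟩ :=
    Cfsg.Agent.S4441.result q M hM hq2 P hP e hrel
  have hYne : Nat.card Y ≠ 0 := by
    rw [hY]
    have hq1 : q - 1 ≠ 0 := by have := hq.out.two_le; omega
    exact (Nat.div_pos (Nat.le_of_dvd (Nat.pos_of_ne_zero hq1) he)
      (Nat.pos_of_ne_zero fun h0 => hq1 (by simpa [h0] using he))).ne'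
  obtain ⟨⟨θ0, hθ0⟩⟩ := (Nat.card_ne_zero.1 hYne).1
  set one := H12.oneIrr G
  have hone : one ∈ X ∨ one ∈ Y := by
    have : one ∈ principalBlock M G := H20.mem_blockOf_self (H12.oneIrr G)
    rwa [hB] at this
  have hone1 : charDegree (one : G → ℂ) = 1 := by simp [one, charDegree, H12.oneIrr_apply]
  -- degree relation modulo two
  have hpar : ∀ θ ∈ Y, (∑ χ ∈ X.toFinset, charDegree (χ : G → ℂ)) % 2 = charDegree (θ : G → ℂ) % 2 := by
    intro θ hθ
    have h1 := hreg θ hθ 1 (by rw [orderOf_one]; exact hq.out.not_dvd_one)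
    rw [finsum_mem_eq_toFinset_sum, H24.irr_one] at h1
    simp only [H24.irr_one] at h1
    have h2 : ε * (charDegree (θ : G → ℂ) : ℤ) = ∑ χ ∈ X.toFinset, εX χ * (charDegree (χ : G → ℂ) : ℤ) := by
      exact_mod_cast h1
    have h3 : ((charDegree (θ : G → ℂ) : ℤ) : ZMod 2) =
        ((∑ χ ∈ X.toFinset, charDegree (χ : G → ℂ) : ℕ) : ZMod 2) := by
      have h4 := congrArg (fun z : ℤ => (z : ZMod 2)) h2
      simp only [Int.cast_sum, Int.cast_mul, Int.cast_natCast] at h4
      rw [Finset.sum_congr rfl (g := fun χ : IrrCharacter G => (charDegree (χ : G → ℂ) : ZMod 2)) (fun χ hχ => by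
        rcases (hX χ (Set.mem_toFinset.1 hχ)).1 with e | e <;> simp [e, ZMod.neg_eq_self_mod_two])] at h4
      rcases hε with rfl | rfl <;> simpa [ZMod.neg_eq_self_mod_two] using h4
    rw [Int.cast_natCast, ZMod.natCast_eq_natCast_iff'] at h3
    exact h3.symm
  obtain ⟨χ, hχB, hχ1, hodd⟩ : ∃ χ, (χ ∈ X ∨ χ ∈ Y) ∧ χ ≠ one ∧ charDegree (χ : G → ℂ) % 2 = 1 := by
    by_contra hc
    simp only [not_exists, not_and] at hc
    rcases hone with h1 | h1
    · have h2 := hpar θ0 hθ0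
      have hne : θ0 ≠ one := fun e => Set.disjoint_left.1 hXY h1 (e ▸ hθ0)
      have h3 := hc θ0 (Or.inr hθ0) hne
      rw [← add_sum_erase _ _ (Set.mem_toFinset.2 h1), hone1, Nat.add_mod, Finset.sum_nat_mod,
        Finset.sum_eq_zero (fun χ hχ => ?_)] at h2
      · omega
      · have := hc χ (Or.inl (Set.mem_toFinset.1 (mem_erase.1 hχ).2)) (mem_erase.1 hχ).1
        omega
    · have h2 := hpar one h1
      rw [hone1, Finset.sum_nat_mod, Finset.sum_eq_zero (fun χ hχ => ?_)] at h2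
      · omega
      · have hmem := Set.mem_toFinset.1 hχ
        have hne : χ ≠ one := fun e => Set.disjoint_left.1 hXY (e ▸ hmem) h1
        have := hc χ (Or.inl hmem) hne
        omega
  set d := charDegree (χ : G → ℂ) with hd
  have hcong : DegCong q e d := by
    rcases hχB with h | h
    · rcases (hX χ h).1 with e1 | e1 <;> have h2 := (hX χ h).2.1 <;> rw [e1] at h2
      · exact Or.inl h2
      · exact Or.inr (Or.inl h2)
    · have h2 := hYc χ h
      rcases hε with rfl | rfl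
      · exact Or.inr (Or.inr (Or.inl (by simpa using h2)))
      · exact Or.inr (Or.inr (Or.inr (by simpa using h2)))
  have hqd : ¬ q ∣ d := by
    intro hdd
    have h0 : (d : ℤ) ≡ 0 [ZMOD q] := Int.modEq_zero_iff_dvd.2 (by exact_mod_cast hdd)
    have he0 : ¬ q ∣ e := fun hqe => by
      have := hq.out.two_le
      have := Nat.le_of_dvd (by omega) (hqe.trans he); omega
    have key : ∀ z : ℤ, (d : ℤ) ≡ z [ZMOD q] → (q : ℤ) ∣ z := fun z hz =>
      Int.modEq_zero_iff_dvd.1 (hz.symm.trans h0)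
    rcases hcong with h | h | h | h <;> have h' := key _ h
    · exact hq.out.ne_one (by exact_mod_cast Int.eq_one_of_dvd_one (by positivity) h')
    · exact hq.out.ne_one (by exact_mod_cast Int.eq_one_of_dvd_one (by positivity) (dvd_neg.1 h'))
    · exact he0 (by exact_mod_cast h')
    · exact he0 (by exact_mod_cast dvd_neg.1 h')
  have hd9 : d ∣ 9 := by
    have h1 : d ∣ 9 * 2 ^ a * q := hcard ▸ H24.charDegree_dvd_card χ
    have h2 : d ∣ 9 * 2 ^ a := (hq.out.coprime_iff_not_dvd.2 hqd).symm.dvd_of_dvd_mul_right h1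
    exact (((Nat.prime_two.coprime_iff_not_dvd.2 (by omega : ¬ 2 ∣ d)).symm).pow_right a).dvd_of_dvd_mul_right h2
  have hd39 : d = 3 ∨ d = 9 := by
    obtain ⟨i, hi, hdi⟩ := (Nat.dvd_prime_pow Nat.prime_three (m := 2)).1 (by norm_num; exact hd9)
    interval_cases i
    · exact absurd (hdi.trans (pow_zero 3)) (degree_ne_one hG χ hχ1)
    · left; simpa using hdi
    · right; rw [hdi]; norm_num
  refine ⟨d, hd39, ?_, hcong⟩
  have hqG : q ∣ Nat.card G := hcard ▸ dvd_mul_left _ _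
  refine Cfsg.Agent.S4503.result q hq.out hqG ?_ ?_ (χ : G → ℂ) (H12.isCharacter_irr χ)
    (irr_faithful χ hχ1)
  · intro h2
    rw [hcard, sq] at h2
    have := Nat.dvd_of_mul_dvd_mul_right hq.out.pos h2
    rcases hq.out.dvd_mul.1 this with e1 | e1
    · exact hq3 ((Nat.prime_dvd_prime_iff_eq hq.out Nat.prime_three).1
        (hq.out.dvd_of_dvd_pow (show q ∣ 3 ^ 2 by norm_num; exact e1)))
    · exact hq2 ((Nat.prime_dvd_prime_iff_eq hq.out Nat.prime_two).1 (hq.out.dvd_of_dvd_pow e1))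
  · intro H hH hcardH
    rcases hH.eq_bot_or_eq_top with rfl | rfl
    · rw [Subgroup.card_bot] at hcardH; exact hq.out.ne_one hcardH.symm
    · rw [Subgroup.card_top, hcard] at hcardH
      have : 9 * q ≤ 9 * 2 ^ a * q := Nat.mul_le_mul_right q (by
        have := Nat.one_le_two_pow (n := a); omega)
      have := hq.out.pos
      omega

/-- Schur's bound for a character fixed by all field automorphisms -/
theorem schur_bound_of_fixed {p : ℕ} (hp : p.Prime) {χ : G → ℂ} (hχ : IsCharacter G χ)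
    (hfaith : ∀ g : G, χ g = χ 1 → g = 1) (hfix : ∀ σ : ℂ ≃+* ℂ, ∀ g, σ (χ g) = χ g)
    (n : ℕ) (hn : charDegree χ = n) :
    (Nat.card G).factorization p ≤ ∑ i ∈ Finset.range (n + 1), n / ((p - 1) * p ^ i) := by
  haveI : Fact p.Prime := ⟨hp⟩
  set a := (Nat.card G).factorization p with ha
  obtain ⟨Q⟩ : Nonempty (Sylow p G) := inferInstance
  have hQ : Nat.card (Q : Subgroup G) = p ^ a := Q.card_eq_multiplicity
  have hres := H12.IsCharacter.res hχ (Q : Subgroup G)
  have hdeg : H12.degree (fun q : (Q : Subgroup G) => χ q) = n := by rw [← hn]; rfl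
  have hinv : ∀ (g : (Q : Subgroup G)) (j : ℕ), Nat.Coprime j (p ^ a) →
      χ ((g ^ j : (Q : Subgroup G)) : G) = χ g := by
    intro g j hj
    obtain ⟨σ, hσ⟩ := H25.exists_ringEquiv_pow_rootOfUnity (p ^ a) j (pow_pos hp.pos a) hj
    have hmap := H25.map_character_apply hres σ j (fun z hz => hσ z (by rwa [← hQ])) g
    exact hmap.symm.trans (hfix σ _)
  have hb := H17.SchurBound.bound hp hQ hres (fun g hg => Subtype.ext (hfaith g hg)) hinv
  rwa [hdeg] at hb

theorem pow_two_mod (q k : ℕ) (hk : 2 ^ k % q = 1) (a : ℕ) :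
    2 ^ a % q = 2 ^ (a % k) % q := by
  have h1 : (2 ^ k) ^ (a / k) % q = 1 % q := by rw [Nat.pow_mod, hk, one_pow]
  calc 2 ^ a % q = 2 ^ (a % k) * (2 ^ k) ^ (a / k) % q := by rw [← pow_mul, ← pow_add, Nat.mod_add_div]
    _ = 2 ^ (a % k) % q := by rw [Nat.mul_mod, h1, ← Nat.mul_mod, mul_one]

/-- order `9 · 2 ^ a · p` with a dihedral normaliser at `p`: the exponent is at most six -/
theorem dihedral_bound (hG : ¬ IsMulCommutative G) {p a : ℕ} [hp : Fact p.Prime] (hp5 : 5 ≤ p)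
    (hcard : Nat.card G = 9 * 2 ^ a * p) {P : Sylow p G} (hP : Nat.card (P : Subgroup G) = p)
    (hC : Subgroup.centralizer ((P : Subgroup G) : Set G) = (P : Subgroup G))
    (hN : Nat.card (Subgroup.normalizer ((P : Subgroup G) : Set G)) = 2 * p) :
    ∃ X D : ℕ, 1 < X ∧ (p ∣ X + 1 ∧ X = D + 1 ∨ p ∣ X - 1 ∧ D = X + 1) ∧ 2 ^ a * D ≤ 36 * X := by
  have hodd : ¬ 2 ∣ 9 * p := fun h => by
    rcases Nat.prime_two.dvd_mul.1 h with e | e
    · norm_num at e
    · have := (Nat.prime_dvd_prime_iff_eq Nat.prime_two hp.out).1 e; omega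
  obtain ⟨X, hXc, -⟩ := H62.dihedral_cases (n := 9 * 2 ^ a * p) (q := 2 ^ a) (s := a) (m := 9 * p)
    hG hcard hP hC hN hp5 (by ring) hodd rfl
  rw [H62.dihedralCands, mem_filter] at hXc
  obtain ⟨-, hX1, hX⟩ := hXc
  have hpos : 0 < p * 2 ^ a := by have := hp.out.pos; positivity
  rcases hX with ⟨h1, -, h3⟩ | ⟨h1, -, h3⟩
  · refine ⟨X, X - 1, hX1, Or.inl ⟨Nat.dvd_of_mod_eq_zero h1, by omega⟩, Nat.le_of_mul_le_mul_left ?_ hpos⟩
    calc p * 2 ^ a * (2 ^ a * (X - 1)) = p * 2 ^ a * 2 ^ a * (X - 1) := by ring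
      _ ≤ 4 * (9 * 2 ^ a * p) * X := h3
      _ = p * 2 ^ a * (36 * X) := by ring
  · refine ⟨X, X + 1, hX1, Or.inr ⟨Nat.dvd_of_mod_eq_zero h1, rfl⟩, Nat.le_of_mul_le_mul_left ?_ hpos⟩
    calc p * 2 ^ a * (2 ^ a * (X + 1)) = p * 2 ^ a * 2 ^ a * (X + 1) := by ring
      _ ≤ 4 * (9 * 2 ^ a * p) * X := h3
      _ = p * 2 ^ a * (36 * X) := by ring

/-- the order when `q = 7` -/
theorem seven_case (hG : ¬ IsMulCommutative G) {a : ℕ} (hcard : Nat.card G = 9 * 2 ^ a * 7) :
    Nat.card G = 504 := by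
  haveI : Fact (Nat.Prime 7) := ⟨by norm_num⟩
  obtain ⟨P⟩ : Nonempty (Sylow 7 G) := inferInstance
  obtain ⟨hP, hC, e, m, hed, he1, hem, hm, hN⟩ := exists_index hG (by norm_num) (by norm_num) hcard P
  have hmod : 9 * (2 ^ (a % 3) % 7) % 7 = e % 7 := by
    rw [← pow_two_mod 7 3 (by norm_num) a]
    calc 9 * (2 ^ a % 7) % 7 = (9 * 2 ^ a) % 7 := by rw [Nat.mul_mod, Nat.mod_mod, ← Nat.mul_mod]
      _ = (e * m) % 7 := by rw [hem]
      _ = e % 7 := by rw [Nat.mul_mod, hm, mul_one, Nat.mod_mod]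
  have he6 : e ≤ 6 := Nat.le_of_dvd (by norm_num) hed
  obtain ⟨d, hd, hd7, hcong⟩ := exists_odd_degree hG (by norm_num) (by norm_num) hcard hed hP hC hN
  have he2 : e = 2 := by
    have h3 : a % 3 < 3 := Nat.mod_lt _ (by norm_num)
    generalize a % 3 = r at h3 hmod
    unfold DegCong Int.ModEq at hcong
    interval_cases e <;> interval_cases r <;> rcases hd with rfl | rfl <;> simp_all
  subst he2
  rw [mul_comm 7 2] at hN
  obtain ⟨X, D, hX, hXD, hb⟩ := dihedral_bound hG (by norm_num) hcard hP hC hN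
  have ha6 : a ≤ 6 := by
    by_contra hc
    have : 2 ^ 7 ≤ 2 ^ a := Nat.pow_le_pow_right (by norm_num) (by omega)
    have : 2 ^ 7 * D ≤ 2 ^ a * D := Nat.mul_le_mul_right D this
    omega
  interval_cases a <;> simp_all <;> omega

/-- the order when `q = 5` -/
theorem five_case (hG : ¬ IsMulCommutative G) {a : ℕ} (hcard : Nat.card G = 9 * 2 ^ a * 5)
    (χ : IrrCharacter G) (hχ1 : χ ≠ H12.oneIrr G) (hdeg : charDegree (χ : G → ℂ) = 4)
    (hfix : ∀ σ : ℂ ≃+* ℂ, ∀ g, σ ((χ : G → ℂ) g) = (χ : G → ℂ) g) :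
    Nat.card G = 360 := by
  haveI : Fact (Nat.Prime 5) := ⟨by norm_num⟩
  obtain ⟨P⟩ : Nonempty (Sylow 5 G) := inferInstance
  obtain ⟨hP, hC, e, m, hed, he1, hem, hm, hN⟩ := exists_index hG (by norm_num) (by norm_num) hcard P
  have hmod : 9 * (2 ^ (a % 4) % 5) % 5 = e % 5 := by
    rw [← pow_two_mod 5 4 (by norm_num) a]
    calc 9 * (2 ^ a % 5) % 5 = (9 * 2 ^ a) % 5 := by rw [Nat.mul_mod, Nat.mod_mod, ← Nat.mul_mod]
      _ = (e * m) % 5 := by rw [hem]
      _ = e % 5 := by rw [Nat.mul_mod, hm, mul_one, Nat.mod_mod]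
  have h2a : a ≤ 7 := by
    have hb := schur_bound_of_fixed Nat.prime_two (H12.isCharacter_irr χ)
      (irr_faithful χ hχ1) hfix 4 hdeg
    have hfac : (Nat.card G).factorization 2 = a := by
      rw [hcard, show 9 * 2 ^ a * 5 = 2 ^ a * 45 by ring,
        Nat.factorization_mul (pow_ne_zero _ two_ne_zero) (by norm_num), Finsupp.add_apply,
        Nat.factorization_eq_zero_of_not_dvd (n := 45) (by norm_num), Nat.prime_two.factorization_pow,
        Finsupp.single_eq_same, add_zero]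
    rw [hfac] at hb
    simpa [Finset.sum_range_succ] using hb
  have he4 : e ≤ 4 := Nat.le_of_dvd (by norm_num) hed
  have hed' : e = 2 ∨ e = 4 := by
    interval_cases e <;> simp_all
  rcases hed' with rfl | rfl
  · rw [mul_comm 5 2] at hN
    obtain ⟨X, D, hX, hXD, hb⟩ := dihedral_bound hG (by norm_num) hcard hP hC hN
    interval_cases a <;> simp_all <;> omega
  · exfalso
    interval_cases a
    all_goals first
      | omega
      | (norm_num at hmod; done)
      | exact H65.card_ne_720 (G := G) (by rw [hcard]; norm_num)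

end H59.Nine
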