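import Cfsg.Agent.H59.Nine.QBlock
import Cfsg.Agent.H62.DihedralBlock
import Cfsg.Agent.H62.InvertCount

/-!
The case `q = 17`: the order is `2448`.
-/

set_option autoImplicit false
set_option linter.style.haveILetI false
set_option linter.unusedSectionVars false
set_option maxHeartbeats 1200000

open Cfsg
open scoped Classical ComplexConjugate

namespace H59.Nine

open Finset

universe u

theorem neg16_cases (l : ℕ) :
    ((l : ℕ) = 0 ∧ (-16 : ℤ) ^ l = 1) ∨ (l = 1 ∧ (-16 : ℤ) ^ l = -16) ∨ (256 : ℤ) ∣ (-16) ^ l := by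
  rcases l with _ | _ | l
  · exact Or.inl ⟨rfl, pow_zero _⟩
  · exact Or.inr (Or.inl ⟨rfl, pow_one _⟩)
  · exact Or.inr (Or.inr ⟨(-16) ^ l, by ring⟩)

/-- signed degrees congruent to one -/
theorem shape17 {m t : ℕ} (ht : t ≤ 2) (hm : 2 ^ m * 3 ^ t ≠ 1) {σ : ℤ} (hσ : σ = 1 ∨ σ = -1)
    (h : ((2 ^ m * 3 ^ t : ℕ) : ℤ) ≡ σ [ZMOD 17]) :
    σ * ((2 ^ m * 3 ^ t : ℕ) : ℤ) = 18 ∨ σ * ((2 ^ m * 3 ^ t : ℕ) : ℤ) = -16 ∨
      σ * ((2 ^ m * 3 ^ t : ℕ) : ℤ) = -288 ∨
      ((256 : ℤ) ∣ σ * ((2 ^ m * 3 ^ t : ℕ) : ℤ) ∧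
        (σ * ((2 ^ m * 3 ^ t : ℕ) : ℤ) = 256 → t = 0)) := by
  have hd : ((2 ^ m * 3 ^ t : ℕ) : ℤ) = 2 ^ (m % 4) * 16 ^ (m / 4) * 3 ^ t := by
    push_cast
    congr 1
    conv_lhs => rw [← Nat.mod_add_div m 4, pow_add, pow_mul]
    norm_num
  have h16 : (16 : ℤ) ^ (m / 4) ≡ (-1) ^ (m / 4) [ZMOD 17] := Int.ModEq.pow _ (by decide)
  rw [hd] at h ⊢
  have h' : (2 : ℤ) ^ (m % 4) * (-1) ^ (m / 4) * 3 ^ t ≡ σ [ZMOD 17] :=
    (((Int.ModEq.refl ((2 : ℤ) ^ (m % 4))).mul h16).mul (Int.ModEq.refl _)).symm.trans h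
  have hneg : (-16 : ℤ) ^ (m / 4) = (-1) ^ (m / 4) * 16 ^ (m / 4) := by rw [← mul_pow]; norm_num
  have hm4 : m % 4 < 4 := Nat.mod_lt _ (by norm_num)
  have hm0 : m % 4 = 0 → m / 4 = 0 → t = 0 → False := fun a b c => hm (by
    rw [c, show m = 0 by omega]; norm_num)
  rcases neg16_cases (m / 4) with ⟨hl, hl'⟩ | ⟨hl, hl'⟩ | hl'
  · rw [hl] at h' ⊢
    generalize m % 4 = r at hm4 h' hm0
    interval_cases r <;> interval_cases t <;> rcases hσ with rfl | rfl <;>
      simp_all [Int.ModEq]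
  · rw [hl] at h' ⊢
    generalize m % 4 = r at hm4 h' hm0
    interval_cases r <;> interval_cases t <;> rcases hσ with rfl | rfl <;>
      simp_all [Int.ModEq]
  · right; right; right
    generalize m % 4 = r at hm4 h' hm0
    generalize m / 4 = l at h' hneg hl'
    rcases neg_one_pow_eq_or ℤ l with e | e <;> rw [e] at h' hneg <;>
      interval_cases r <;> interval_cases t <;> rcases hσ with rfl | rfl <;>
      simp_all [Int.ModEq] <;> omega

theorem count17 (x y z r : ℕ) (k R : ℤ) (hc : x + y + z + r = 6)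
    (hs : 18 * (x : ℤ) - 16 * y - 288 * z + R = 6) (hR : R = 256 * k) (h0 : r = 0 → k = 0) :
    x = 3 ∧ z ≤ 1 ∧ (r = 0 ∨ (r = 1 ∧ R = 256)) := by
  have hx : x ≤ 6 := by omega
  have hy : y ≤ 6 := by omega
  have hz : z ≤ 6 := by omega
  interval_cases x <;> interval_cases z <;> interval_cases y <;> omega

variable {G : Type u} [Group G] [Fintype G] [IsSimpleGroup G]

theorem irr_real_of_sq (χ : IrrCharacter G) {v : G} (hv : v * v = 1) :
    (((χ : G → ℂ) v).re : ℂ) = (χ : G → ℂ) v := by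
  apply Complex.conj_eq_iff_re.1
  rw [← H12.irr_inv, inv_eq_of_mul_eq_one_right hv]

theorem seventeen_case (hG : ¬ IsMulCommutative G) {a : ℕ} (hcard : Nat.card G = 9 * 2 ^ a * 17)
    (ψ : IrrCharacter G) (hψ1 : ψ ≠ H12.oneIrr G) (hψd : charDegree (ψ : G → ℂ) = 16) :
    Nat.card G = 2448 := by
  haveI : Fact (Nat.Prime 17) := ⟨by norm_num⟩
  haveI : Fact (Nat.Prime 2) := ⟨Nat.prime_two⟩
  obtain ⟨P⟩ : Nonempty (Sylow 17 G) := inferInstance
  obtain ⟨hP, hC, e, m, hed, he1, hem, hm, hN⟩ := exists_index hG (by norm_num) (by norm_num) hcard P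
  obtain ⟨d, hd, hd17, hcong⟩ := exists_odd_degree hG (by norm_num) (by norm_num) hcard hed hP hC hN
  have hd9 : d = 9 := by omega
  subst hd9
  have he8 : e = 8 := by
    have he16 : e ≤ 16 := Nat.le_of_dvd (by norm_num) hed
    unfold DegCong Int.ModEq at hcong
    interval_cases e <;> simp_all
  subst he8
  have hmod : 9 * (2 ^ (a % 8) % 17) % 17 = 8 := by
    rw [← pow_two_mod 17 8 (by norm_num) a]
    calc 9 * (2 ^ a % 17) % 17 = (9 * 2 ^ a) % 17 := by rw [Nat.mul_mod, Nat.mod_mod, ← Nat.mul_mod]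
      _ = (8 * m) % 17 := by rw [hem]
      _ = 8 := by rw [Nat.mul_mod, hm]
  have ha8 : a % 8 = 4 := by
    have h8 : a % 8 < 8 := Nat.mod_lt _ (by norm_num)
    generalize a % 8 = r at h8 hmod
    interval_cases r <;> simp_all
  by_cases ha : a = 4
  · rw [hcard, ha]; norm_num
  exfalso
  have ha12 : 12 ≤ a := by omega
  -- a `2`-central involution
  have h2G : 2 ∣ Nat.card G := by
    rw [hcard]; exact ((dvd_pow_self 2 (by omega : a ≠ 0)).mul_left 9).mul_right 17
  obtain ⟨v, S, hv, hS⟩ := H62.exists_involution_sylow_le h2G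
  have hv1 : v ≠ 1 := fun e => by rw [e, orderOf_one] at hv; omega
  have hvv : v * v = 1 := by rw [← pow_two, ← hv, pow_orderOf_eq_one]
  have hSc : Nat.card (S : Subgroup G) = 2 ^ a :=
    H62.card_sylow_coe (a := a) (m := 9 * 17) (by rw [hcard]; ring) (by norm_num) S
  set cl := (Subgroup.centralizer ({v} : Set G)).index with hcl
  have hcl153 : cl * 2 ^ a ≤ 153 * 2 ^ a := by
    have h1 := Subgroup.card_mul_index (Subgroup.centralizer ({v} : Set G))
    have h2 : 2 ^ a ≤ Nat.card (Subgroup.centralizer ({v} : Set G)) :=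
      hSc ▸ Nat.le_of_dvd Nat.card_pos (Subgroup.card_dvd_of_le hS)
    rw [← hcl, hcard] at h1
    nlinarith
  have hcl' : cl ≤ 153 := Nat.le_of_mul_le_mul_right hcl153 (by positivity)
  have hclodd : ¬ 2 ∣ cl := fun h => S.not_dvd_index (h.trans (Subgroup.index_dvd_of_le hS))
  -- no element of order `17` is a product of two conjugates of `v`
  obtain ⟨g, hgP, hg1, -⟩ := H65.exists_sylow_generator P hP
  have hCg : Subgroup.centralizer ({g} : Set G) = (P : Subgroup G) := H62.centralizer_eq_of_mem hP hC hgP hg1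
  have hcm : H24.classMult v v g = 0 := by
    by_contra hne
    obtain ⟨⟨⟨v1, v2⟩, hc1, hc2, h12⟩⟩ := (Nat.card_ne_zero.1 hne).1
    simp only at hc1 hc2 h12
    have hsq : ∀ w : G, IsConj v w → w * w = 1 := fun w hw => by
      obtain ⟨c, rfl⟩ := isConj_iff.1 hw
      rw [show c * v * c⁻¹ * (c * v * c⁻¹) = c * (v * v) * c⁻¹ by group, hvv]; group
    have hmap : Function.Injective (fun c : G =>
        ((⟨c * v1 * c⁻¹, hc1.trans (isConj_iff.2 ⟨c, rfl⟩)⟩ : {w : G // IsConj v w}),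
          (⟨c * v2 * c⁻¹, hc2.trans (isConj_iff.2 ⟨c, rfl⟩)⟩ : {w : G // IsConj v w}))) := by
      intro c c' h
      simp only [Prod.mk.injEq, Subtype.mk.injEq] at h
      set k := c'⁻¹ * c
      have hk1 : k * v1 * k⁻¹ = v1 := by
        calc k * v1 * k⁻¹ = c'⁻¹ * (c * v1 * c⁻¹) * c' := by simp only [k]; group
          _ = v1 := by rw [h.1]; group
      have hk2 : k * v2 * k⁻¹ = v2 := by
        calc k * v2 * k⁻¹ = c'⁻¹ * (c * v2 * c⁻¹) * c' := by simp only [k]; group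
          _ = v2 := by rw [h.2]; group
      have hkg : k * g * k⁻¹ = g := by
        rw [← h12]
        calc k * (v1 * v2) * k⁻¹ = (k * v1 * k⁻¹) * (k * v2 * k⁻¹) := by group
          _ = v1 * v2 := by rw [hk1, hk2]
      have hkP : k ∈ (P : Subgroup G) := hCg ▸ mem_cent.2 (by
        calc k * g = k * g * k⁻¹ * k := by group
          _ = g * k := by rw [hkg])
      by_contra hcc
      have hk0 : k ≠ 1 := fun e => hcc (inv_mul_eq_one.1 e).symm
      have hck : Subgroup.centralizer ({k} : Set G) = (P : Subgroup G) :=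
        H62.centralizer_eq_of_mem hP hC hkP hk0
      have hv1P : v1 ∈ (P : Subgroup G) := hck ▸ mem_cent.2 (by
        calc v1 * k = k * v1 * k⁻¹ * k := by rw [hk1]
          _ = k * v1 := by group)
      have ho : orderOf v1 ∣ 2 := orderOf_dvd_of_pow_eq_one (by rw [pow_two]; exact hsq v1 hc1)
      have ho' : orderOf v1 ∣ 17 := hP ▸ Subgroup.orderOf_dvd_natCard _ hv1P
      have : v1 = 1 := orderOf_eq_one_iff.1 (Nat.dvd_one.1 (Nat.dvd_gcd ho ho'))
      exact hv1 (isConj_one_left.1 (this ▸ hc1))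
    have hle := Nat.card_le_card_of_injective _ hmap
    rw [Nat.card_prod, hcard] at hle
    have hcl2 : Nat.card {w : G // IsConj v w} = cl := by
      rw [hcl, ← H21.index_centralizer_eq_card_conj]
    rw [hcl2] at hle
    have h4096 : 2 ^ 12 ≤ 2 ^ a := Nat.pow_le_pow_right (by norm_num) ha12
    have : cl * cl ≤ 153 * 153 := Nat.mul_le_mul hcl' hcl'
    nlinarith
  -- the principal block
  obtain ⟨M, hM⟩ := H22.exists_isPModular 17 (by norm_num)
  haveI := H20.isPrime_of_modular hM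
  have hfree := H62.freeSylow_of_selfCentral hP hC
  have hrelIdx : (Subgroup.centralizer ((P : Subgroup G) : Set G)).relIndex
      (Subgroup.normalizer ((P : Subgroup G) : Set G)) = 8 := by
    rw [hC, Subgroup.relIndex]
    have h1 := Subgroup.card_mul_index
      ((P : Subgroup G).subgroupOf (Subgroup.normalizer ((P : Subgroup G) : Set G)))
    rw [Nat.card_congr (Subgroup.subgroupOfEquivOfLe Subgroup.le_normalizer).toEquiv, hP, hN] at h1
    exact Nat.eq_of_mul_eq_mul_left (by norm_num) h1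
  obtain ⟨X, Y, hB, hXY, hXc, hYc, εX, ε, hX, hε, hYd, hYeq, hreg⟩ :=
    Cfsg.Agent.S4441.result 17 M hM (by norm_num) P hP 8 hrelIdx
  set one := H12.oneIrr G
  have hg1' : ∀ χ ∈ X, (χ : G → ℂ) g = (εX χ : ℂ) := fun χ hχ => by
    have := (hX χ hχ).2.2 g hgP hg1 1 (one_mem _) (by rw [orderOf_one]; norm_num)
    rwa [mul_one] at this
  have hout : ∀ χ : IrrCharacter G, χ ∉ principalBlock M G → ∀ u ∈ (P : Subgroup G), u ≠ 1 →
      (χ : G → ℂ) u = 0 := by
    intro χ hχ u hu hu1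
    have h1 := H12.column_orthogonality u u
    rw [if_pos (IsConj.refl u), H62.centralizer_eq_of_mem hP hC hu hu1, hP,
      ← Finset.sum_sdiff (Finset.subset_univ (principalBlock M G).toFinset)] at h1
    have h2 := hfree.column_self hM hu hu1
    rw [finsum_mem_eq_toFinset_sum, hP] at h2
    rw [h2, add_eq_right] at h1
    simp only [Complex.mul_conj, ← Complex.ofReal_sum, Complex.ofReal_eq_zero] at h1
    exact Complex.normSq_eq_zero.1
      ((Finset.sum_eq_zero_iff_of_nonneg fun _ _ => Complex.normSq_nonneg _).1 h1 χ (by simp [hχ]))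
  have honeX : one ∈ X := by
    have h1 : one ∈ principalBlock M G := H20.mem_blockOf_self (H12.oneIrr G)
    rw [hB] at h1
    refine h1.resolve_right fun hY => ?_
    have h2 := hYd one hY
    rw [show charDegree (one : G → ℂ) = 1 by simp [one, charDegree, H12.oneIrr_apply]] at h2
    rcases hε with rfl | rfl <;> simp [Int.ModEq] at h2
  have hε1 : εX one = 1 := by
    have h2 := (hX one honeX).2.1
    rw [show charDegree (one : G → ℂ) = 1 by simp [one, charDegree, H12.oneIrr_apply]] at h2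
    rcases (hX one honeX).1 with e | e
    · exact e
    · rw [e] at h2; simp [Int.ModEq] at h2
  -- degrees in `X`
  have hXshape : ∀ χ ∈ X, χ ≠ one → ∃ mm t : ℕ, t ≤ 2 ∧ charDegree (χ : G → ℂ) = 2 ^ mm * 3 ^ t ∧
      2 ^ mm * 3 ^ t ≠ 1 := by
    intro χ hχ hne
    have hq : ¬ 17 ∣ charDegree (χ : G → ℂ) := by
      intro h
      have h2 := (hX χ hχ).2.1
      have h0 : (charDegree (χ : G → ℂ) : ℤ) ≡ 0 [ZMOD 17] := Int.modEq_zero_iff_dvd.2 (by exact_mod_cast h)
      have h3 := h2.symm.trans h0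
      rcases (hX χ hχ).1 with e | e <;> rw [e] at h3 <;> simp [Int.ModEq] at h3
    have h1 : charDegree (χ : G → ℂ) ∣ 2 ^ a * 3 ^ 2 := by
      refine ((Nat.Prime.coprime_iff_not_dvd (by norm_num)).2 hq).symm.dvd_of_dvd_mul_right ?_
      rw [show 2 ^ a * 3 ^ 2 * 17 = Nat.card G by rw [hcard]; ring]
      exact H24.charDegree_dvd_card χ
    obtain ⟨y, z, hy, hz, he⟩ := exists_dvd_and_dvd_of_dvd_mul h1
    obtain ⟨mm, -, rfl⟩ := (Nat.dvd_prime_pow Nat.prime_two).1 hy
    obtain ⟨t, ht, rfl⟩ := (Nat.dvd_prime_pow Nat.prime_three).1 hz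
    exact ⟨mm, t, ht, he, he ▸ degree_ne_one hG χ hne⟩
  let f : IrrCharacter G → ℤ := fun χ => εX χ * (charDegree (χ : G → ℂ) : ℤ)
  have hfcases : ∀ χ ∈ X, χ ≠ one → f χ = 18 ∨ f χ = -16 ∨ f χ = -288 ∨
      ((256 : ℤ) ∣ f χ ∧ (f χ = 256 → (χ : G → ℂ) v = 0)) := by
    intro χ hχ hne
    obtain ⟨mm, t, ht, he, hne1⟩ := hXshape χ hχ hne
    have h2 := (hX χ hχ).2.1
    rw [he] at h2
    rcases shape17 ht hne1 (hX χ hχ).1 h2 with h | h | h | ⟨h, h'⟩
    · left; simpa [f, he] using h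
    · right; left; simpa [f, he] using h
    · right; right; left; simpa [f, he] using h
    · right; right; right
      refine ⟨by simpa [f, he] using h, fun h256 => ?_⟩
      have ht0 := h' (by simpa [f, he] using h256)
      subst ht0
      refine vanish_of_coprime hG χ hne hv1 ?_
      rw [he, pow_zero, mul_one]
      exact (Nat.prime_two.coprime_iff_not_dvd.2 hclodd).pow_left _
  -- the degree nine pair
  obtain ⟨θ0, hθ0⟩ : ∃ θ, θ ∈ Y := by
    have : Nat.card Y ≠ 0 := by rw [hYc]; norm_num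
    obtain ⟨⟨θ, hθ⟩⟩ := (Nat.card_ne_zero.1 this).1
    exact ⟨θ, hθ⟩
  have hψX : ψ ∈ X := by
    have hψB : ψ ∈ principalBlock M G := by
      by_contra hn
      obtain ⟨k, hk⟩ := H12.IsCharacter.classInner_nat
        (H12.IsCharacter.res (H12.isCharacter_irr ψ) (P : Subgroup G))
        (H12.isCharacter_one (G := (P : Subgroup G)))
      rw [classInner, inv_mul_eq_iff_eq_mul₀ (by exact_mod_cast Nat.card_pos.ne')] at hk
      simp only [map_one, mul_one] at hk
      rw [sum_eq_single (1 : (P : Subgroup G)) (fun z _ hz => hout ψ hn z z.2 fun e => hz (Subtype.ext e))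
        (fun h => absurd (mem_univ _) h), OneMemClass.coe_one, H24.irr_one, hψd, hP] at hk
      have : (16 : ℕ) = 17 * k := by exact_mod_cast hk
      omega
    rw [hB] at hψB
    refine hψB.resolve_right fun hY => ?_
    have h2 := hYd ψ hY
    rw [hψd] at h2
    rcases hε with rfl | rfl <;> simp [Int.ModEq] at h2
  have hθ9 : charDegree (θ0 : G → ℂ) = 9 ∧ ε = -1 := by
    -- some member of the block has degree nine
    obtain ⟨d', hd', hpar', -⟩ : ∃ d', (∃ χ, χ ∈ Y ∧ charDegree (χ : G → ℂ) = d') ∧ d' % 2 = 1 ∧ True := by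
      by_contra hc
      simp only [not_exists, not_and, and_true] at hc
      have hYeven : charDegree (θ0 : G → ℂ) % 2 = 0 := by
        have := hc (charDegree (θ0 : G → ℂ)) ⟨θ0, hθ0, rfl⟩; omega
      have h1 := hreg θ0 hθ0 1 (by rw [orderOf_one]; norm_num)
      rw [finsum_mem_eq_toFinset_sum, H24.irr_one] at h1
      simp only [H24.irr_one] at h1
      have h2 : ε * (charDegree (θ0 : G → ℂ) : ℤ) = ∑ χ ∈ X.toFinset, f χ := by
        simp only [f]; exact_mod_cast h1
      have h3 : (2 : ℤ) ∣ ∑ χ ∈ X.toFinset.erase one, f χ := dvd_sum fun χ hχ => by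
        obtain ⟨hne, hmem⟩ := mem_erase.1 hχ
        rcases hfcases χ (Set.mem_toFinset.1 hmem) hne with e | e | e | ⟨e, -⟩
        · rw [e]; norm_num
        · rw [e]; norm_num
        · rw [e]; norm_num
        · exact (by norm_num : (2 : ℤ) ∣ 256).trans e
      rw [← add_sum_erase _ _ (Set.mem_toFinset.2 honeX)] at h2
      have hf1 : f one = 1 := by simp [f, hε1, one, charDegree, H12.oneIrr_apply]
      rw [hf1] at h2
      rcases hε with rfl | rfl <;> omega
    obtain ⟨χ, hχY, rfl⟩ := hd'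
    have heq : charDegree (θ0 : G → ℂ) = charDegree (χ : G → ℂ) := by
      have := hYeq θ0 hθ0 χ hχY 1 (by rw [orderOf_one]; norm_num)
      rw [H24.irr_one, H24.irr_one] at this
      exact_mod_cast this
    have hq : ¬ 17 ∣ charDegree (χ : G → ℂ) := by
      intro h
      have h2 := hYd χ hχY
      have h0 : (charDegree (χ : G → ℂ) : ℤ) ≡ 0 [ZMOD 17] := Int.modEq_zero_iff_dvd.2 (by exact_mod_cast h)
      have h3 := h2.symm.trans h0
      rcases hε with rfl | rfl <;> simp [Int.ModEq] at h3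
    have hodd : ¬ 2 ∣ charDegree (χ : G → ℂ) := by
      intro h
      omega
    have h9 : charDegree (χ : G → ℂ) ∣ 9 := by
      have h1 : charDegree (χ : G → ℂ) ∣ 9 * 2 ^ a * 17 := hcard ▸ H24.charDegree_dvd_card χ
      exact (((Nat.prime_two.coprime_iff_not_dvd.2 hodd).symm).pow_right a).dvd_of_dvd_mul_right
        (((Nat.Prime.coprime_iff_not_dvd (by norm_num)).2 hq).symm.dvd_of_dvd_mul_right h1)
    have h2 := hYd χ hχY
    have hle := Nat.le_of_dvd (by norm_num) h9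
    rw [heq]
    generalize charDegree (χ : G → ℂ) = D at h9 h2 hle
    rcases hε with rfl | rfl <;> interval_cases D <;>
      first | (norm_num at h9; done) | (norm_num [Int.ModEq] at h2; done) | norm_num
  obtain ⟨hθ9, rfl⟩ := hθ9
  -- relations
  have hrel1 : ∀ h : G, ¬ 17 ∣ orderOf h →
      -(θ0 : G → ℂ) h = ∑ χ ∈ X.toFinset, (εX χ : ℂ) * (χ : G → ℂ) h := fun h hh => by
    have := hreg θ0 hθ0 h hh
    rw [finsum_mem_eq_toFinset_sum] at this
    simpa using this
  set T := (X.toFinset.erase one).erase ψ with hT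
  have hψE : ψ ∈ X.toFinset.erase one := mem_erase.2 ⟨hψ1, Set.mem_toFinset.2 hψX⟩
  have hTc : T.card = 6 := by
    rw [hT, card_erase_of_mem hψE, card_erase_of_mem (Set.mem_toFinset.2 honeX),
      ← Nat.card_eq_card_toFinset, hXc]
  have hfψ : f ψ = -16 := by
    have h2 := (hX ψ hψX).2.1
    rw [hψd] at h2
    rcases (hX ψ hψX).1 with e | e <;> rw [e] at h2
    · simp [Int.ModEq] at h2
    · simp [f, e, hψd]
  have hfone : f one = 1 := by simp [f, hε1, one, charDegree, H12.oneIrr_apply]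
  have hTsum : ∑ χ ∈ T, f χ = 6 := by
    have h1 := hrel1 1 (by rw [orderOf_one]; norm_num)
    simp only [H24.irr_one, hθ9] at h1
    have h2 : -(9 : ℤ) = ∑ χ ∈ X.toFinset, f χ := by simp only [f]; exact_mod_cast h1
    rw [← add_sum_erase _ _ (Set.mem_toFinset.2 honeX), ← add_sum_erase _ _ hψE, hfone, hfψ, ← hT] at h2
    omega
  have hTmem : ∀ χ ∈ T, χ ∈ X ∧ χ ≠ one := fun χ hχ => by
    rw [hT, mem_erase, mem_erase] at hχ
    exact ⟨Set.mem_toFinset.1 hχ.2.2, hχ.2.1⟩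
  set A := T.filter fun χ => f χ = 18
  set T1 := T.filter fun χ => ¬ f χ = 18
  set Bq := T1.filter fun χ => f χ = -16
  set T2 := T1.filter fun χ => ¬ f χ = -16
  set Z := T2.filter fun χ => f χ = -288
  set Rs := T2.filter fun χ => ¬ f χ = -288
  have hc1 : A.card + T1.card = T.card := card_filter_add_card_filter_not _
  have hc2 : Bq.card + T2.card = T1.card := card_filter_add_card_filter_not _
  have hc3 : Z.card + Rs.card = T2.card := card_filter_add_card_filter_not _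
  have hs1 : ∑ χ ∈ A, f χ + ∑ χ ∈ T1, f χ = ∑ χ ∈ T, f χ := sum_filter_add_sum_filter_not _ _ _
  have hs2 : ∑ χ ∈ Bq, f χ + ∑ χ ∈ T2, f χ = ∑ χ ∈ T1, f χ := sum_filter_add_sum_filter_not _ _ _
  have hs3 : ∑ χ ∈ Z, f χ + ∑ χ ∈ Rs, f χ = ∑ χ ∈ T2, f χ := sum_filter_add_sum_filter_not _ _ _
  have hconst : ∀ (U : Finset (IrrCharacter G)) (c : ℤ), (∀ χ ∈ U, f χ = c) →
      ∑ χ ∈ U, f χ = U.card * c := fun U c hU => by rw [sum_congr rfl hU, sum_const, nsmul_eq_mul]
  rw [hconst A 18 (fun χ h => (mem_filter.1 h).2)] at hs1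
  rw [hconst Bq (-16) (fun χ h => (mem_filter.1 h).2)] at hs2
  rw [hconst Z (-288) (fun χ h => (mem_filter.1 h).2)] at hs3
  have hR256 : ∀ χ ∈ Rs, (256 : ℤ) ∣ f χ ∧ (f χ = 256 → (χ : G → ℂ) v = 0) := by
    intro χ hχ
    simp only [Rs, T2, T1, mem_filter] at hχ
    obtain ⟨⟨⟨hχT, n1⟩, n2⟩, n3⟩ := hχ
    exact (((hfcases χ (hTmem χ hχT).1 (hTmem χ hχT).2).resolve_left n1).resolve_left n2).resolve_left n3
  obtain ⟨k, hk⟩ : (256 : ℤ) ∣ ∑ χ ∈ Rs, f χ := dvd_sum fun χ hχ => (hR256 χ hχ).1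
  have hR0 : Rs.card = 0 → k = 0 := fun h => by
    rw [card_eq_zero] at h; rw [h, sum_empty] at hk; omega
  have hsol : A.card = 3 ∧ Z.card ≤ 1 ∧ (Rs.card = 0 ∨ (Rs.card = 1 ∧ ∑ χ ∈ Rs, f χ = 256)) :=
    count17 A.card Bq.card Z.card Rs.card k _ (by omega) (by linarith) hk hR0
  have hRv : ∀ χ ∈ Rs, (χ : G → ℂ) v = 0 := by
    intro χ hχ
    rcases hsol.2.2 with h | ⟨h, h'⟩
    · exact absurd hχ (by rw [card_eq_zero.1 h]; exact notMem_empty χ)
    · obtain ⟨χ', hχ'⟩ := card_eq_one.1 h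
      rw [hχ', sum_singleton] at h'
      rw [hχ', mem_singleton] at hχ
      subst hχ
      exact (hR256 χ (by rw [hχ']; exact mem_singleton_self _)).2 h'
  have hB16 : ∀ χ ∈ Bq, (χ : G → ℂ) v = 0 := by
    intro χ hχ
    simp only [Bq, T1, mem_filter] at hχ
    obtain ⟨⟨hχT, -⟩, hf16⟩ := hχ
    refine vanish_of_coprime hG χ (hTmem χ hχT).2 hv1 ?_
    have : charDegree (χ : G → ℂ) = 16 := by
      rcases (hX χ (hTmem χ hχT).1).1 with e | e <;> simp only [f, e] at hf16 <;> omega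
    rw [this, show (16 : ℕ) = 2 ^ 4 by norm_num]
    exact (Nat.prime_two.coprime_iff_not_dvd.2 hclodd).pow_left _
  have hψv : (ψ : G → ℂ) v = 0 := vanish_of_coprime hG ψ hψ1 hv1 (by
    rw [hψd, show (16 : ℕ) = 2 ^ 4 by norm_num]
    exact (Nat.prime_two.coprime_iff_not_dvd.2 hclodd).pow_left _)
  let r : IrrCharacter G → ℝ := fun χ => ((χ : G → ℂ) v).re
  have hr : ∀ χ : IrrCharacter G, (χ : G → ℂ) v = (r χ : ℂ) := fun χ => (irr_real_of_sq χ hvv).symm
  have hr1 : r one = 1 := by simp [r, one, H12.oneIrr_apply]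
  have hvo : ¬ 17 ∣ orderOf v := by rw [hv]; norm_num
  -- splitting a sum over `X`
  have hsplit : ∀ φ : IrrCharacter G → ℝ, (∀ χ, r χ = 0 → φ χ = 0) →
      ∑ χ ∈ X.toFinset, φ χ = φ one + ∑ χ ∈ A, φ χ + ∑ χ ∈ Z, φ χ := by
    intro φ hφ
    have h0 : ∀ U : Finset (IrrCharacter G), (∀ χ ∈ U, (χ : G → ℂ) v = 0) → ∑ χ ∈ U, φ χ = 0 :=
      fun U hU => sum_eq_zero fun χ hχ => hφ χ (by simp [r, hU χ hχ])
    rw [← add_sum_erase _ _ (Set.mem_toFinset.2 honeX), ← add_sum_erase _ _ hψE, ← hT,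
      hφ ψ (by simp [r, hψv]),
      ← sum_filter_add_sum_filter_not T (fun χ => f χ = 18),
      ← sum_filter_add_sum_filter_not (T.filter fun χ => ¬ f χ = 18) (fun χ => f χ = -16), h0 Bq hB16,
      ← sum_filter_add_sum_filter_not ((T.filter fun χ => ¬ f χ = 18).filter fun χ => ¬ f χ = -16)
        (fun χ => f χ = -288), h0 Rs hRv]
    ring
  have hεA : ∀ χ ∈ A, εX χ = 1 ∧ (charDegree (χ : G → ℂ) : ℝ) = 18 := by
    intro χ hχ
    simp only [A, mem_filter] at hχ
    rcases (hX χ (hTmem χ hχ.1).1).1 with e | e <;> simp only [f, e] at hχ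
    · exact ⟨e, by exact_mod_cast (show charDegree (χ : G → ℂ) = 18 by omega)⟩
    · omega
  have hεZ : ∀ χ ∈ Z, εX χ = -1 ∧ (charDegree (χ : G → ℂ) : ℝ) = 288 := by
    intro χ hχ
    simp only [Z, T2, T1, mem_filter] at hχ
    rcases (hX χ (hTmem χ hχ.1.1.1).1).1 with e | e <;> simp only [f, e] at hχ
    · omega
    · exact ⟨e, by exact_mod_cast (show charDegree (χ : G → ℂ) = 288 by omega)⟩
  -- the linear equation
  have hlin : -(r θ0) = 1 + ∑ χ ∈ A, r χ - ∑ χ ∈ Z, r χ := by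
    have h1 := hrel1 v hvo
    simp only [hr] at h1
    have h2 : -(r θ0) = ∑ χ ∈ X.toFinset, (εX χ : ℝ) * r χ := by exact_mod_cast h1
    rw [h2, hsplit _ (fun χ h => by rw [h, mul_zero]), hε1, hr1,
      sum_congr rfl (g := r) (fun χ hχ => by rw [(hεA χ hχ).1]; simp),
      sum_congr rfl (s₁ := Z) (g := fun χ => -(r χ)) (fun χ hχ => by rw [(hεZ χ hχ).1]; simp),
      sum_neg_distrib]
    push_cast; ring
  -- the class equation
  have hquad : 1 + (r θ0) ^ 2 / 9 + ∑ χ ∈ A, (r χ) ^ 2 / 18 - ∑ χ ∈ Z, (r χ) ^ 2 / 288 = 0 := by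
    have h1 := H24.classMult_eq v v g
    rw [hcm, Nat.cast_zero, zero_mul] at h1
    have hidx : ((Subgroup.centralizer ({v} : Set G)).index : ℂ) ≠ 0 := by
      exact_mod_cast Subgroup.index_ne_zero_of_finite
    have h2 := (mul_eq_zero.1 h1.symm).resolve_left (mul_ne_zero hidx hidx)
    have hYg : ∑ χ ∈ Y.toFinset, conj ((χ : G → ℂ) g) = 1 := by
      have h3 := H12.column_orthogonality (1 : G) g
      rw [if_neg (fun h => hg1 (isConj_one_right.1 h)),
        ← Finset.sum_sdiff (Finset.subset_univ (principalBlock M G).toFinset),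
        Finset.sum_eq_zero (s := univ \ (principalBlock M G).toFinset) (fun χ hχ => by
          rw [hout χ (by simpa using hχ) g hgP hg1, map_zero, mul_zero]), zero_add] at h3
      rw [show (principalBlock M G).toFinset = X.toFinset ∪ Y.toFinset by
        rw [← Set.toFinset_union]; exact Set.toFinset_congr hB,
        sum_union (Set.disjoint_toFinset.2 hXY)] at h3
      have h4 : ∑ χ ∈ X.toFinset, (χ : G → ℂ) 1 * conj ((χ : G → ℂ) g) = -(9 : ℂ) := by
        have h5 := hrel1 1 (by rw [orderOf_one]; norm_num)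
        rw [H24.irr_one, hθ9, Nat.cast_ofNat] at h5
        rw [h5]
        exact sum_congr rfl fun χ hχ => by rw [hg1' χ (Set.mem_toFinset.1 hχ), map_intCast, mul_comm]
      have h5 : ∀ χ ∈ Y.toFinset, (χ : G → ℂ) 1 = 9 := fun χ hχ => by
        rw [hYeq χ (Set.mem_toFinset.1 hχ) θ0 hθ0 1 (by rw [orderOf_one]; norm_num), H24.irr_one, hθ9]
        norm_num
      rw [h4, sum_congr rfl (fun χ hχ => by rw [h5 χ hχ]), ← mul_sum] at h3
      linear_combination h3 / 9
    rw [← Finset.sum_sdiff (Finset.subset_univ (principalBlock M G).toFinset),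
      Finset.sum_eq_zero (s := univ \ (principalBlock M G).toFinset) (fun χ hχ => by
        rw [hout χ (by simpa using hχ) g hgP hg1, map_zero, mul_zero, zero_div]), zero_add,
      show (principalBlock M G).toFinset = X.toFinset ∪ Y.toFinset by
        rw [← Set.toFinset_union]; exact Set.toFinset_congr hB,
      sum_union (Set.disjoint_toFinset.2 hXY)] at h2
    have hY' : ∑ χ ∈ Y.toFinset, (χ : G → ℂ) v * (χ : G → ℂ) v * conj ((χ : G → ℂ) g) / (χ : G → ℂ) 1 =
        (((r θ0) ^ 2 / 9 : ℝ) : ℂ) := by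
      rw [sum_congr rfl (g := fun χ : IrrCharacter G => (((r θ0) ^ 2 / 9 : ℝ) : ℂ) * conj ((χ : G → ℂ) g))
        (fun χ hχ => ?_), ← mul_sum, hYg, mul_one]
      rw [hYeq χ (Set.mem_toFinset.1 hχ) θ0 hθ0 v hvo,
        hYeq χ (Set.mem_toFinset.1 hχ) θ0 hθ0 1 (by rw [orderOf_one]; norm_num), H24.irr_one, hθ9, hr]
      push_cast; ring
    rw [hY', sum_congr rfl (g := fun χ : IrrCharacter G =>
      (((εX χ : ℝ) * ((r χ) ^ 2 / (charDegree (χ : G → ℂ) : ℝ)) : ℝ) : ℂ)) (fun χ hχ => by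
        rw [hg1' χ (Set.mem_toFinset.1 hχ), map_intCast, H24.irr_one, hr]; push_cast; ring),
      ← Complex.ofReal_sum, ← Complex.ofReal_add, Complex.ofReal_eq_zero,
      hsplit _ (fun χ h => by rw [h]; simp), hε1, hr1,
      sum_congr rfl (g := fun χ => (r χ) ^ 2 / 18) (fun χ hχ => by
        rw [(hεA χ hχ).1, (hεA χ hχ).2]; simp),
      sum_congr rfl (s₁ := Z) (g := fun χ => -((r χ) ^ 2 / 288)) (fun χ hχ => by
        rw [(hεZ χ hχ).1, (hεZ χ hχ).2]; simp), sum_neg_distrib,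
      show charDegree (one : G → ℂ) = 1 by simp [one, charDegree, H12.oneIrr_apply]] at h2
    push_cast at h2
    linarith
  obtain ⟨x1, x2, x3, h12, h13, h23, hAe⟩ := card_eq_three.1 hsol.1
  rw [hAe, sum_insert (by simp [h12, h13]), sum_insert (by simp [h23]), sum_singleton] at hlin hquad
  rcases Nat.le_one_iff_eq_zero_or_eq_one.1 hsol.2.1 with hz | hz
  · rw [card_eq_zero.1 hz, sum_empty] at hquad
    nlinarith [sq_nonneg (r θ0), sq_nonneg (r x1), sq_nonneg (r x2), sq_nonneg (r x3)]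
  · obtain ⟨z, hz'⟩ := card_eq_one.1 hz
    rw [hz', sum_singleton] at hquad hlin
    have hw : r z = 1 + r θ0 + r x1 + r x2 + r x3 := by linarith
    rw [hw] at hquad
    nlinarith [sq_nonneg (r θ0 - r x1), sq_nonneg (r θ0 - r x2), sq_nonneg (r θ0 - r x3),
      sq_nonneg (r x1 - r x2), sq_nonneg (r x1 - r x3), sq_nonneg (r x2 - r x3), sq_nonneg (1 - r θ0),
      sq_nonneg (1 - r x1), sq_nonneg (1 - r x2), sq_nonneg (1 - r x3), sq_nonneg (r θ0),
      sq_nonneg (r x1), sq_nonneg (r x2), sq_nonneg (r x3)]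

end H59.Nine
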