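import Cfsg.Agent.H59.Nine.Count
import Cfsg.Agent.H65.SimpleTools

/-!
The elements with `3`-part conjugate into `R \ K`: the third of the group.
-/

set_option autoImplicit false
set_option linter.style.haveILetI false
set_option linter.unusedSectionVars false
set_option linter.unusedVariables false

namespace H59.Nine

open Subgroup Finset
open scoped Classical Pointwise

universe u

variable {G : Type u} [Group G] [Fintype G] [hp3 : Fact (Nat.Prime 3)] {R : Sylow 3 G} {K : Subgroup G}

/-- a nonidentity element of a group of order three is the other one or its inverse -/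
theorem eq_or_eq_inv_of_three {Q : Type*} [Group Q] [Finite Q] (hQ : Nat.card Q = 3) {a b : Q}
    (ha : a ≠ 1) (hb : b ≠ 1) : a = b ∨ a = b⁻¹ := by
  have h := mem_zpowers_of_prime_card (p := 3) hQ hb (g' := a)
  have ho : orderOf b = 3 := by
    rcases (Nat.dvd_prime Nat.prime_three).1 (hQ ▸ orderOf_dvd_natCard b) with e | e
    · exact absurd (orderOf_eq_one_iff.1 e) hb
    · exact e
  obtain ⟨i, hi⟩ := mem_zpowers_iff.1 h
  rw [← zpow_mod_orderOf, ho] at hi
  have h1 := Int.emod_nonneg i (b := (3 : ℤ)) (by norm_num)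
  have h2 := Int.emod_lt_of_pos i (b := (3 : ℤ)) (by norm_num)
  have : i % 3 = 0 ∨ i % 3 = 1 ∨ i % 3 = 2 := by omega
  rw [show ((3 : ℕ) : ℤ) = 3 from rfl] at hi
  rcases this with e | e | e <;> rw [e] at hi
  · exact absurd (by simpa using hi.symm) ha
  · left; simpa using hi.symm
  · right
    rw [← hi, eq_inv_iff_mul_eq_one, ← zpow_add_one, show (2 : ℤ) + 1 = ((3 : ℕ) : ℤ) from rfl,
      zpow_natCast, ← ho, pow_orderOf_eq_one]

theorem Inv.two_cosets (h : Inv R K) {a b : G} (ha : a ∈ (R : Subgroup G)) (haK : a ∉ K)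
    (hb : b ∈ (R : Subgroup G)) (hbK : b ∉ K) : a * b⁻¹ ∈ K ∨ a * b ∈ K := by
  haveI : (K.subgroupOf (R : Subgroup G)).Normal := ⟨fun x hx g => by
    have e : g * x * g⁻¹ = x := by
      apply Subtype.ext
      show (g : G) * x * (g : G)⁻¹ = x
      rw [h.comm g.2 x.2]; group
    rw [e]; exact hx⟩
  have hQ : Nat.card ((R : Subgroup G) ⧸ K.subgroupOf (R : Subgroup G)) = 3 := by
    have h1 := Subgroup.card_mul_index (K.subgroupOf (R : Subgroup G))
    rw [Nat.card_congr (Subgroup.subgroupOfEquivOfLe h.le).toEquiv, h.cardK, h.card] at h1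
    rw [← Subgroup.index_eq_card]; omega
  have hne : ∀ x : (R : Subgroup G), (x : G) ∉ K →
      (QuotientGroup.mk x : (R : Subgroup G) ⧸ K.subgroupOf (R : Subgroup G)) ≠ 1 := fun x hx e =>
    hx ((QuotientGroup.eq_one_iff x).1 e)
  rcases eq_or_eq_inv_of_three hQ (hne ⟨a, ha⟩ haK) (hne ⟨b, hb⟩ hbK) with e | e
  · left
    rw [← mul_inv_eq_one, ← QuotientGroup.mk_inv, ← QuotientGroup.mk_mul, QuotientGroup.eq_one_iff] at e
    exact e
  · right
    rw [eq_inv_iff_mul_eq_one, ← QuotientGroup.mk_mul, QuotientGroup.eq_one_iff] at e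
    exact e

theorem Inv.conj_notMem (h : Inv R K) {n x : G} (hn : n ∈ normalizer ((R : Subgroup G) : Set G))
    (hxK : x ∉ K) : n * x * n⁻¹ ∉ K := fun e => hxK <| by
  have := h.inv n⁻¹ (inv_mem hn) _ e
  simpa [mul_assoc] using this

/-- an element moving one `x ∉ K` only inside its coset is in the kernel -/
theorem Inv.ker_of_one (h : Inv R K) {x n : G} (hx : x ∈ (R : Subgroup G)) (hxK : x ∉ K)
    (hn : n ∈ normalizer ((R : Subgroup G) : Set G)) (hnx : n * x * n⁻¹ * x⁻¹ ∈ K) : n ∈ ker0 R K := by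
  refine ⟨hn, fun r hr => ?_⟩
  by_cases hrK : r ∈ K
  · exact mul_mem (h.inv n hn r hrK) (K.inv_mem hrK)
  have hR : ∀ a ∈ (R : Subgroup G), n * a * n⁻¹ ∈ (R : Subgroup G) := fun a ha =>
    (mem_normalizer_iff.1 hn a).1 ha
  rcases h.two_cosets hr hrK hx hxK with e | e
  · have he : n * r * n⁻¹ * r⁻¹ = (n * (r * x⁻¹) * n⁻¹) * ((n * x * n⁻¹ * x⁻¹) * (r * x⁻¹)⁻¹) := by
      group
    rw [he]
    exact mul_mem (h.inv n hn _ e) (mul_mem hnx (K.inv_mem e))
  · have hxr : (n * x * n⁻¹)⁻¹ * x ∈ K := by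
      have : (n * x * n⁻¹ * x⁻¹)⁻¹ = x * (n * x * n⁻¹)⁻¹ := by group
      rw [h.comm ((R : Subgroup G).inv_mem (hR x hx)) hx, ← this]
      exact K.inv_mem hnx
    have he : n * r * n⁻¹ * r⁻¹ = (n * (r * x) * n⁻¹) * (((n * x * n⁻¹)⁻¹ * x) * (r * x)⁻¹) := by group
    rw [he]
    exact mul_mem (h.inv n hn _ e) (mul_mem hxr (K.inv_mem e))

/-- the kernel of the action on `R / K` as a subgroup -/
def Inv.kerSub (h : Inv R K) : Subgroup G where
  carrier := ker0 R K
  one_mem' := ⟨one_mem _, fun r _ => by simp⟩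
  mul_mem' := fun {n m} hn hm => by
    refine ⟨mul_mem hn.1 hm.1, fun r hr => ?_⟩
    have e : n * m * r * (n * m)⁻¹ * r⁻¹ =
        (n * (m * r * m⁻¹ * r⁻¹) * n⁻¹) * (n * r * n⁻¹ * r⁻¹) := by group
    rw [e]
    exact K.mul_mem (h.inv n hn.1 _ (hm.2 r hr)) (hn.2 r hr)
  inv_mem' := fun {n} hn => by
    refine ⟨inv_mem hn.1, fun r hr => ?_⟩
    have h' := hn.2 _ ((mem_normalizer_iff.1 (inv_mem hn.1) r).1 hr)
    have e : n⁻¹ * r * n⁻¹⁻¹ * r⁻¹ = (n * (n⁻¹ * r * n⁻¹⁻¹) * n⁻¹ * (n⁻¹ * r * n⁻¹⁻¹)⁻¹)⁻¹ := by group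
    rw [e]; exact K.inv_mem h'

theorem Inv.mem_kerSub (h : Inv R K) {n : G} : n ∈ h.kerSub ↔ n ∈ ker0 R K := Iff.rfl

theorem card_eq_two_mul {A B : Subgroup G} (hle : A ≤ B) {a : G} (haB : a ∈ B) (haA : a ∉ A)
    (hmul : ∀ b ∈ B, b ∉ A → b * a ∈ A) : Nat.card B = 2 * Nat.card A := by
  have hidx : (A.subgroupOf B).index = 2 := by
    refine Subgroup.index_eq_two_iff.2 ⟨⟨a, haB⟩, fun b => ?_⟩
    by_cases hb : (b : G) ∈ A
    · refine Or.inr ⟨hb, fun hba => haA ?_⟩
      have := A.mul_mem (A.inv_mem hb) (show (b : G) * a ∈ A from hba)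
      simpa using this
    · exact Or.inl ⟨hmul b b.2 hb, hb⟩
  rw [← Subgroup.card_mul_index (A.subgroupOf B), hidx,
    Nat.card_congr (Subgroup.subgroupOfEquivOfLe hle).toEquiv, mul_comm]

theorem Inv.cent_le_kerSub (h : Inv R K) : centralizer ((R : Subgroup G) : Set G) ≤ h.kerSub :=
  fun n hn => ⟨centralizer_le_normalizer _ hn, fun r hr => by
    rw [← mem_centralizer_iff.1 hn r hr]; simp⟩

theorem Inv.st_cases (h : Inv R K) {x : G} (hx : x ∈ (R : Subgroup G)) (hxK : x ∉ K) :
    st R x = centralizer ((R : Subgroup G) : Set G) ∨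
      Nat.card (st R x) = 2 * Nat.card (centralizer ((R : Subgroup G) : Set G)) := by
  by_cases hle : st R x ≤ centralizer ((R : Subgroup G) : Set G)
  · exact Or.inl (le_antisymm hle (h.cent_le_st hx))
  · obtain ⟨n, hn, hn'⟩ := SetLike.not_le_iff_exists.1 hle
    exact Or.inr (card_eq_two_mul (h.cent_le_st hx) hn hn' fun b hb hb' =>
      h.mul_of_not_cent (h.st_le hx hxK hb) hb' (h.st_le hx hxK hn) hn')

/-- fibre of the map taking the `3`-part -/
theorem card_pPart_fibre {y : G} (hy : ∃ j : ℕ, orderOf y = 3 ^ j) :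
    (univ.filter fun g : G => H20.pPart 3 g = y).card = (reg y).card := by
  refine card_bij' (fun g _ => H20.qPart 3 g) (fun k _ => y * k) ?_ ?_ ?_ ?_
  · intro g hg
    simp only [mem_filter, mem_univ, true_and] at hg
    simp only [reg, mem_filter, mem_univ, true_and]
    exact ⟨by rw [← hg]; exact (H20.commute_pPart_qPart g).eq.symm, H20.not_dvd_orderOf_qPart g⟩
  · intro k hk
    simp only [reg, mem_filter, mem_univ, true_and] at hk
    simp only [mem_filter, mem_univ, true_and]
    exact (H20.isPPart_unique' rfl hk.1.symm hy hk.2).1.symm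
  · intro g hg
    simp only [mem_filter, mem_univ, true_and] at hg
    show y * H20.qPart 3 g = g
    rw [← hg, H20.pPart_mul_qPart]
  · intro k hk
    simp only [reg, mem_filter, mem_univ, true_and] at hk
    exact (H20.isPPart_unique' rfl hk.1.symm hy hk.2).2.symm

theorem orderOf_conj_eq (c y : G) : orderOf (c * y * c⁻¹) = orderOf y := by
  rw [← MulAut.conj_apply, MulEquiv.orderOf_eq]

theorem pPart_regular_center {x g : G} (hg : g * x = x * g) :
    H20.pPart 3 g * x = x * H20.pPart 3 g ∧ H20.qPart 3 g * x = x * H20.qPart 3 g := by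
  have hc : Commute g x := hg
  exact ⟨hc.pow_left _, hc.pow_left _⟩

theorem Inv.orderOf_cases (h : Inv R K) {x : G} (hx : x ∈ (R : Subgroup G)) (hx1 : x ≠ 1) :
    orderOf x = 3 ∨ orderOf x = 9 := by
  have hd : orderOf x ∣ 3 ^ 2 := by
    rw [show (3 : ℕ) ^ 2 = Nat.card (R : Subgroup G) by rw [h.card]; norm_num]
    exact Subgroup.orderOf_dvd_natCard _ hx
  obtain ⟨i, hi, he⟩ := (Nat.dvd_prime_pow Nat.prime_three).1 hd
  rcases i with _ | _ | _ | i
  · exact absurd (orderOf_eq_one_iff.1 (by simpa using he)) hx1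
  · left; simpa using he
  · right; rw [he]; norm_num
  · omega

/-- the regular part of a centraliser -/
theorem Inv.reg_card (h : Inv R K) {x : G} (hx : x ∈ (R : Subgroup G)) (hxK : x ∉ K) :
    9 * (reg x).card * Nat.card (centralizer ((R : Subgroup G) : Set G)) =
      Nat.card (centralizer ({x} : Set G)) * Nat.card (st R x) := by
  have hx1 : x ≠ 1 := fun e => hxK (e ▸ K.one_mem)
  set C := centralizer ((R : Subgroup G) : Set G) with hC
  set Cx := centralizer ({x} : Set G)
  set A := univ.filter fun g : G => g * x = x * g with hA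
  set T := univ.filter fun g : G => g ∈ zpowers x with hT
  have hAc : A.card = Nat.card Cx := by
    rw [← card_filter_mem Cx]; congr 1; ext g; simp [hA, Cx, mem_cent]
  have hTc : T.card = orderOf x := by rw [hT, card_filter_mem, Nat.card_zpowers]
  have h1 : (A.filter fun g => H20.pPart 3 g ∈ zpowers x).card = orderOf x * (reg x).card := by
    rw [← hTc, ← card_product]
    refine card_bij' (fun g _ => (H20.pPart 3 g, H20.qPart 3 g)) (fun p _ => p.1 * p.2) ?_ ?_ ?_ ?_
    · intro g hg
      simp only [hA, mem_filter, mem_univ, true_and] at hg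
      simp only [mem_product, hT, reg, mem_filter, mem_univ, true_and]
      exact ⟨hg.2, (pPart_regular_center hg.1).2, H20.not_dvd_orderOf_qPart g⟩
    · rintro ⟨z, k⟩ hp
      simp only [mem_product, hT, reg, mem_filter, mem_univ, true_and] at hp
      obtain ⟨hz, hk, hk'⟩ := hp
      have hzk : Commute z k := by
        obtain ⟨i, rfl⟩ := mem_zpowers_iff.1 hz
        exact ((show Commute k x from hk).zpow_right i).symm
      have hzR : z ∈ (R : Subgroup G) := zpowers_le.2 hx hz
      have hzx : Commute z x := h.comm hzR hx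
      simp only [hA, mem_filter, mem_univ, true_and]
      refine ⟨hzx.mul_left hk, ?_⟩
      rw [← (H20.isPPart_unique' rfl hzk (exists_orderOf_of_mem R hzR) hk').1]
      exact hz
    · intro g _
      exact H20.pPart_mul_qPart g
    · rintro ⟨z, k⟩ hp
      simp only [mem_product, hT, reg, mem_filter, mem_univ, true_and] at hp
      obtain ⟨hz, hk, hk'⟩ := hp
      have hzk : Commute z k := by
        obtain ⟨i, rfl⟩ := mem_zpowers_iff.1 hz
        exact ((show Commute k x from hk).zpow_right i).symm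
      obtain ⟨e1, e2⟩ := H20.isPPart_unique' rfl hzk (exists_orderOf_of_mem R (zpowers_le.2 hx hz)) hk'
      exact Prod.ext e1.symm e2.symm
  -- the other `3`-parts
  set Y := univ.filter fun y : G => y * x = x * y ∧ (∃ j : ℕ, orderOf y = 3 ^ j) ∧ y ∉ zpowers x with hY
  have hconj : ∀ y ∈ Y, ∃ c : G, c * x = x * c ∧ c * y * c⁻¹ ∈ (R : Subgroup G) := by
    intro y hy
    simp only [hY, mem_filter, mem_univ, true_and] at hy
    have hle : (R : Subgroup G) ≤ Cx := fun r hr => mem_cent.2 (h.comm hr hx)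
    haveI : Fintype Cx := Fintype.ofFinite _
    obtain ⟨c, hc⟩ := exists_sylow_conj (G := Cx) (R.subtype hle) (g := ⟨y, mem_cent.2 hy.1⟩)
      (by simpa [Subgroup.orderOf_mk] using hy.2.1)
    exact ⟨c, mem_cent.1 c.2, by simpa [Subgroup.mem_subgroupOf] using hc⟩
  have h2 : ∀ y ∈ Y, 9 * ((A.filter fun g => ¬ H20.pPart 3 g ∈ zpowers x).filter
      fun g => H20.pPart 3 g = y).card = Nat.card C := by
    intro y hy
    obtain ⟨c, hcx, hcy⟩ := hconj y hy
    simp only [hY, mem_filter, mem_univ, true_and] at hy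
    rw [← h.nine_regC]
    congr 1
    have hc' : c⁻¹ * x = x * c⁻¹ := (show Commute c x from hcx).inv_left
    have hcx' : c * x * c⁻¹ = x := by rw [hcx]; group
    refine card_bij' (fun g _ => c * H20.qPart 3 g * c⁻¹) (fun k _ => y * (c⁻¹ * k * c)) ?_ ?_ ?_ ?_
    · intro g hg
      simp only [hA, mem_filter, mem_univ, true_and] at hg
      simp only [mem_filter, mem_univ, true_and]
      refine ⟨h.mem_cent_of_two hx hcy hx1 (fun e => hy.2.2 ?_) ?_ ?_,
        by rw [orderOf_conj_eq]; exact H20.not_dvd_orderOf_qPart g⟩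
      · obtain ⟨i, hi⟩ := mem_zpowers_iff.1 e
        have hxi : Commute c (x ^ i) := (show Commute c x from hcx).zpow_right i
        have : y = x ^ i := by
          calc y = c⁻¹ * (c * y * c⁻¹) * c := by group
            _ = c⁻¹ * (x ^ i * c) := by rw [← hi]; group
            _ = x ^ i := by rw [← hxi.eq]; group
        exact this ▸ zpow_mem (mem_zpowers x) i
      · exact (((show Commute c x from hcx).mul_left (pPart_regular_center hg.1.1).2).mul_left hc').eq
      · rw [show c * H20.qPart 3 g * c⁻¹ * (c * y * c⁻¹) = c * (H20.qPart 3 g * y) * c⁻¹ by group,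
          ← hg.2, ← (H20.commute_pPart_qPart g).eq]
        group
    · intro k hk
      simp only [mem_filter, mem_univ, true_and] at hk
      have hkx : k * x = x * k := (mem_centralizer_iff.1 hk.1 x hx).symm
      have hky : Commute y (c⁻¹ * k * c) := by
        show y * (c⁻¹ * k * c) = c⁻¹ * k * c * y
        calc y * (c⁻¹ * k * c) = c⁻¹ * ((c * y * c⁻¹) * k) * c := by group
          _ = c⁻¹ * (k * (c * y * c⁻¹)) * c := by rw [mem_centralizer_iff.1 hk.1 _ hcy]
          _ = _ := by group
      have hreg : ¬ 3 ∣ orderOf (c⁻¹ * k * c) := by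
        rw [show c⁻¹ * k * c = c⁻¹ * k * c⁻¹⁻¹ by group, orderOf_conj_eq]; exact hk.2
      have hp := (H20.isPPart_unique' rfl hky hy.2.1 hreg).1
      simp only [hA, mem_filter, mem_univ, true_and]
      refine ⟨⟨?_, ?_⟩, hp.symm⟩
      · exact ((show Commute y x from hy.1).mul_left
          (((show Commute c⁻¹ x from hc').mul_left hkx).mul_left hcx)).eq
      · rw [← hp]; exact hy.2.2
    · intro g hg
      simp only [mem_filter, mem_univ, true_and] at hg
      show y * (c⁻¹ * (c * H20.qPart 3 g * c⁻¹) * c) = g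
      rw [show c⁻¹ * (c * H20.qPart 3 g * c⁻¹) * c = H20.qPart 3 g by group, ← hg.2,
        H20.pPart_mul_qPart]
    · intro k hk
      simp only [mem_filter, mem_univ, true_and] at hk
      have hky : Commute y (c⁻¹ * k * c) := by
        show y * (c⁻¹ * k * c) = c⁻¹ * k * c * y
        calc y * (c⁻¹ * k * c) = c⁻¹ * ((c * y * c⁻¹) * k) * c := by group
          _ = c⁻¹ * (k * (c * y * c⁻¹)) * c := by rw [mem_centralizer_iff.1 hk.1 _ hcy]
          _ = _ := by group
      have hreg : ¬ 3 ∣ orderOf (c⁻¹ * k * c) := by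
        rw [show c⁻¹ * k * c = c⁻¹ * k * c⁻¹⁻¹ by group, orderOf_conj_eq]; exact hk.2
      show c * H20.qPart 3 (y * (c⁻¹ * k * c)) * c⁻¹ = k
      rw [← (H20.isPPart_unique' rfl hky hy.2.1 hreg).2]
      group
  have h3 : 9 * (A.filter fun g => ¬ H20.pPart 3 g ∈ zpowers x).card = Y.card * Nat.card C := by
    rw [card_eq_sum_card_fiberwise (f := fun g => H20.pPart 3 g) (t := Y), mul_sum, sum_congr rfl h2,
      sum_const, smul_eq_mul]
    intro g hg
    simp only [coe_filter, hA, mem_filter, mem_univ, true_and, Set.mem_ofPred_eq] at hg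
    simp only [hY, coe_filter, mem_univ, true_and, Set.mem_ofPred_eq]
    exact ⟨(pPart_regular_center hg.1).1, H20.exists_orderOf_pPart g, hg.2⟩
  -- counting `Y`
  set D := univ.filter fun r : G => r ∈ (R : Subgroup G) ∧ r ∉ zpowers x with hD
  have hDc : D.card + orderOf x = 9 := by
    have hu : D ∪ T = univ.filter fun r : G => r ∈ (R : Subgroup G) := by
      ext g
      simp only [hD, hT, mem_union, mem_filter, mem_univ, true_and]
      exact ⟨fun e => e.elim And.left (fun hz => zpowers_le.2 hx hz), fun e => by tauto⟩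
    have hdis : Disjoint D T := disjoint_left.2 fun g hg hg' => by
      simp only [hD, mem_filter] at hg
      simp only [hT, mem_filter] at hg'
      exact hg.2.2 hg'.2
    rw [← hTc, ← card_union_of_disjoint hdis, hu, card_filter_mem, h.card]
  have h4 : Y.card * Nat.card (st R x) = Nat.card Cx * D.card := by
    have hP : (A ×ˢ D).card = Nat.card Cx * D.card := by rw [card_product, hAc]
    rw [← hP, card_eq_sum_card_fiberwise (f := fun p : G × G => p.1 * p.2 * p.1⁻¹) (t := Y),
      sum_congr rfl (g := fun _ => Nat.card (st R x)), sum_const, smul_eq_mul]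
    · intro y hy
      obtain ⟨c, hcx, hcy⟩ := hconj y hy
      simp only [hY, mem_filter, mem_univ, true_and] at hy
      rw [← card_filter_mem (st R x)]
      have hr1 : c * y * c⁻¹ ∉ zpowers x := fun e => hy.2.2 (by
        obtain ⟨i, hi⟩ := mem_zpowers_iff.1 e
        have hxi : Commute c (x ^ i) := (show Commute c x from hcx).zpow_right i
        have : y = x ^ i := by
          calc y = c⁻¹ * (c * y * c⁻¹) * c := by group
            _ = c⁻¹ * (x ^ i * c) := by rw [← hi]; group
            _ = x ^ i := by rw [← hxi.eq]; group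
        exact this ▸ zpow_mem (mem_zpowers x) i)
      refine card_bij' (fun p _ => c * p.1) (fun n _ => (c⁻¹ * n, n⁻¹ * (c * y * c⁻¹) * n)) ?_ ?_ ?_ ?_
      · rintro ⟨a, r⟩ hp
        simp only [mem_filter, mem_product, hA, hD, mem_univ, true_and] at hp
        obtain ⟨⟨ha, hr, hrx⟩, he⟩ := hp
        simp only [mem_filter, mem_univ, true_and, st, Subgroup.mem_inf]
        have hmx : c * a * x = x * (c * a) := ((show Commute c x from hcx).mul_left ha).eq
        refine ⟨?_, mem_cent.2 hmx⟩
        -- `c * a` sends `r` to `c * y * c⁻¹`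
        have hm : (c * a) * r * (c * a)⁻¹ = c * y * c⁻¹ := by rw [← he]; group
        have hsub : ∀ s ∈ (R : Subgroup G), (c * a) * s * (c * a)⁻¹ ∈
            centralizer ((R : Subgroup G) : Set G) := by
          intro s hs
          refine h.mem_cent_of_two hx hcy hx1 hr1 ?_ ?_
          · have hxm : (c * a) * x * (c * a)⁻¹ = x := by rw [hmx]; group
            calc c * a * s * (c * a)⁻¹ * x = c * a * s * (c * a)⁻¹ * ((c * a) * x * (c * a)⁻¹) := by
                  rw [hxm]
              _ = (c * a) * (s * x) * (c * a)⁻¹ := by group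
              _ = (c * a) * x * (c * a)⁻¹ * ((c * a) * s * (c * a)⁻¹) := by rw [h.comm hs hx]; group
              _ = _ := by rw [hxm]
          · rw [← hm]
            calc c * a * s * (c * a)⁻¹ * (c * a * r * (c * a)⁻¹) = (c * a) * (s * r) * (c * a)⁻¹ := by group
              _ = _ := by rw [h.comm hs hr]; group
        have hto : ∀ s ∈ (R : Subgroup G), (c * a) * s * (c * a)⁻¹ ∈ (R : Subgroup G) := fun s hs =>
          mem_of_commute_all R (by rw [orderOf_conj_eq]; exact exists_orderOf_of_mem R hs) (hsub s hs)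
        refine mem_normalizer_iff.2 fun s => ⟨hto s, fun hs => ?_⟩
        have hmap : (R : Subgroup G).map (MulAut.conj (c * a)).toMonoidHom = (R : Subgroup G) := by
          refine Subgroup.eq_of_le_of_card_ge ?_ ?_
          · rintro _ ⟨s, hs, rfl⟩; exact hto s hs
          · exact (Subgroup.card_map_of_injective (MulEquiv.injective _)).ge
        obtain ⟨t, ht, hte⟩ : c * a * s * (c * a)⁻¹ ∈
            (R : Subgroup G).map (MulAut.conj (c * a)).toMonoidHom := by rw [hmap]; exact hs
        have hte' : c * a * t * (c * a)⁻¹ = c * a * s * (c * a)⁻¹ := hte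
        have hts : t = s := mul_left_cancel (mul_right_cancel hte')
        rwa [← hts]
      · intro n hn
        simp only [mem_filter, mem_univ, true_and, st, Subgroup.mem_inf] at hn
        simp only [mem_filter, mem_product, hA, hD, mem_univ, true_and]
        have hnx : Commute n x := mem_cent.1 hn.2
        have hr : n⁻¹ * (c * y * c⁻¹) * n ∈ (R : Subgroup G) := by
          have := (mem_normalizer_iff.1 (inv_mem hn.1) (c * y * c⁻¹)).1 hcy
          simpa using this
        refine ⟨⟨((show Commute c x from hcx).inv_left.mul_left hnx).eq, hr, fun e => hr1 ?_⟩, by group⟩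
        obtain ⟨i, hi⟩ := mem_zpowers_iff.1 e
        have : c * y * c⁻¹ = x ^ i := by
          calc c * y * c⁻¹ = n * (n⁻¹ * (c * y * c⁻¹) * n) * n⁻¹ := by group
            _ = n * x ^ i * n⁻¹ := by rw [hi]
            _ = x ^ i := by rw [(hnx.zpow_right i).eq]; group
        exact this ▸ zpow_mem (mem_zpowers x) i
      · rintro ⟨a, r⟩ hp
        simp only [mem_filter] at hp
        refine Prod.ext (by simp) ?_
        show (c * a)⁻¹ * (c * y * c⁻¹) * (c * a) = r
        rw [← hp.2]; group
      · intro n _; simp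
    · rintro ⟨a, r⟩ hp
      simp only [coe_product, Set.mem_prod, hA, hD, coe_filter, mem_univ, true_and,
        Set.mem_ofPred_eq] at hp
      obtain ⟨ha, hr, hrx⟩ := hp
      simp only [hY, coe_filter, mem_univ, true_and, Set.mem_ofPred_eq]
      refine ⟨(((show Commute a x from ha).mul_left (h.comm hr hx)).mul_left
        (show Commute a x from ha).inv_left).eq,
        by rw [orderOf_conj_eq]; exact exists_orderOf_of_mem R hr, fun e => hrx ?_⟩
      obtain ⟨i, hi⟩ := mem_zpowers_iff.1 e
      have : r = x ^ i := by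
        calc r = a⁻¹ * (a * r * a⁻¹) * a := by group
          _ = a⁻¹ * (x ^ i * a) := by rw [← hi]; group
          _ = x ^ i := by rw [← ((show Commute a x from ha).zpow_right i).eq]; group
      exact this ▸ zpow_mem (mem_zpowers x) i
  have hsplit : orderOf x * (reg x).card + (A.filter fun g => ¬ H20.pPart 3 g ∈ zpowers x).card =
      Nat.card Cx := by
    rw [← hAc, ← h1, card_filter_add_card_filter_not]
  have hCpos : 0 < Nat.card C := Nat.card_pos
  rcases h.orderOf_cases hx hx1 with ho | ho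
  · rw [ho] at hsplit hDc
    rw [show D.card = 6 by omega] at h4
    rcases h.st_cases hx hxK with e | e <;> rw [e] at h4 ⊢
    · rw [← hC] at h4 ⊢
      nlinarith
    · rw [← hC] at h4 ⊢
      nlinarith
  · have hst : st R x = C := by
      refine le_antisymm (fun n hn => ?_) (h.cent_le_st hx)
      have hz : zpowers x = (R : Subgroup G) := Subgroup.eq_of_le_of_card_ge (zpowers_le.2 hx)
        (by rw [Nat.card_zpowers, ho, h.card])
      refine mem_centralizer_iff.2 fun r hr => ?_
      obtain ⟨i, rfl⟩ := mem_zpowers_iff.1 (hz.symm ▸ hr)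
      exact ((show Commute n x from mem_cent.1 hn.2).zpow_right i).eq.symm
    rw [ho] at hsplit hDc
    rw [show D.card = 0 by omega, mul_zero] at h4
    rw [hst] at h4 ⊢
    have : Y.card = 0 := (Nat.mul_eq_zero.1 h4).resolve_right hCpos.ne'
    rw [this, zero_mul] at h3
    nlinarith

/-- elements outside `K` in `R` -/
noncomputable def outK (R : Sylow 3 G) (K : Subgroup G) : Finset G :=
  univ.filter fun x => x ∈ (R : Subgroup G) ∧ x ∉ K

theorem mem_outK {x : G} : x ∈ outK R K ↔ x ∈ (R : Subgroup G) ∧ x ∉ K := by simp [outK]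

theorem Inv.card_outK (h : Inv R K) : (outK R K).card = 6 := by
  have hu : outK R K ∪ (univ.filter fun g : G => g ∈ K) = univ.filter fun g : G => g ∈ (R : Subgroup G) := by
    ext g
    simp only [outK, mem_union, mem_filter, mem_univ, true_and]
    exact ⟨fun e => e.elim And.left (fun hz => h.le hz), fun e => by tauto⟩
  have hdis : Disjoint (outK R K) (univ.filter fun g : G => g ∈ K) := disjoint_left.2 fun g hg hg' => by
    simp only [mem_filter] at hg'
    exact (mem_outK.1 hg).2 hg'.2
  have := card_union_of_disjoint hdis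
  rw [hu, card_filter_mem, card_filter_mem, h.card, h.cardK] at this
  omega

/-- the sum of the squared stabilisers -/
theorem Inv.sum_st (h : Inv R K) (hmove : ∃ n ∈ normalizer ((R : Subgroup G) : Set G), n ∉ ker0 R K) :
    ∑ x ∈ outK R K, Nat.card (st R x) ^ 2 =
      3 * Nat.card (normalizer ((R : Subgroup G) : Set G)) *
        Nat.card (centralizer ((R : Subgroup G) : Set G)) := by
  set N := normalizer ((R : Subgroup G) : Set G)
  set C := centralizer ((R : Subgroup G) : Set G) with hC
  obtain ⟨x0, hx0⟩ : (outK R K).Nonempty := card_pos.1 (by rw [h.card_outK]; norm_num)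
  rw [mem_outK] at hx0
  obtain ⟨n0, hn0, hn0'⟩ := hmove
  have hflip : ∀ m ∈ N, m ∉ ker0 R K → m * x0 * m⁻¹ * x0 ∈ K := fun m hm hm' =>
    (h.two_cosets ((mem_normalizer_iff.1 hm x0).1 hx0.1) (h.conj_notMem hm hx0.2) hx0.1 hx0.2).resolve_left
      fun e => hm' (h.ker_of_one hx0.1 hx0.2 hm e)
  have hN : Nat.card N = 2 * Nat.card h.kerSub := by
    refine card_eq_two_mul (fun n hn => hn.1) hn0 (fun e => hn0' e) fun b hb hb' => ?_
    refine h.ker_of_one hx0.1 hx0.2 (mul_mem hb hn0) ?_
    have h1 := h.inv b hb _ (hflip n0 hn0 hn0')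
    have h2 := hflip b hb hb'
    have e : b * n0 * x0 * (b * n0)⁻¹ * x0⁻¹ =
        (b * (n0 * x0 * n0⁻¹ * x0) * b⁻¹) * (b * x0 * b⁻¹)⁻¹ * x0⁻¹ := by group
    rw [e, mul_assoc]
    refine mul_mem h1 ?_
    have hbR : b * x0 * b⁻¹ ∈ (R : Subgroup G) := (mem_normalizer_iff.1 hb x0).1 hx0.1
    rw [← mul_inv_rev, h.comm hx0.1 hbR]
    exact K.inv_mem h2
  by_cases hker : h.kerSub ≤ C
  · have he : h.kerSub = C := le_antisymm hker h.cent_le_kerSub
    have hst : ∀ x ∈ outK R K, Nat.card (st R x) ^ 2 = Nat.card C ^ 2 := by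
      intro x hx
      rw [mem_outK] at hx
      rw [show st R x = C from le_antisymm (fun n hn => hker (h.st_le hx.1 hx.2 hn)) (h.cent_le_st hx.1)]
    rw [sum_congr rfl hst, sum_const, h.card_outK, smul_eq_mul, hN, he]
    ring
  · obtain ⟨n, hn, hnC⟩ := SetLike.not_le_iff_exists.1 hker
    have hK : Nat.card h.kerSub = 2 * Nat.card C :=
      card_eq_two_mul h.cent_le_kerSub hn hnC fun b hb hb' => h.mul_of_not_cent hb hb' hn hnC
    have hinv : ∀ k ∈ K, n * k * n⁻¹ = k⁻¹ := by
      intro k hk
      by_cases hk1 : k = 1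
      · simp [hk1]
      refine (h.conj_eq_or hn.1 hk hk1).resolve_left fun e => hnC (h.unipotent hn fun j hj => ?_)
      have hne : (⟨k, hk⟩ : K) ≠ 1 := fun e => hk1 (congrArg Subtype.val e)
      obtain ⟨i, hi⟩ := mem_zpowers_iff.1 (mem_zpowers_of_prime_card (p := 3) h.cardK hne (g' := (⟨j, hj⟩ : K)))
      have hji : j = k ^ i := by
        have := congrArg Subtype.val hi
        simpa using this.symm
      rw [hji, ← MulAut.conj_apply, map_zpow, MulAut.conj_apply, e]
    have hfixed : ∀ x ∈ (R : Subgroup G), ∃ k ∈ K, n * (x * k) * n⁻¹ = x * k := by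
      intro x hx
      have hk0 : n * x * n⁻¹ * x⁻¹ ∈ K := hn.2 x hx
      set k0 := n * x * n⁻¹ * x⁻¹
      have hnx : n * x * n⁻¹ = k0 * x := by simp [k0]
      have hk3 : k0 * k0 * k0 = 1 := by
        have : k0 ^ 3 = 1 := orderOf_dvd_iff_pow_eq_one.1 (h.cardK ▸ K.orderOf_dvd_natCard hk0)
        rw [← this]; simp [pow_succ]
      refine ⟨k0⁻¹, K.inv_mem hk0, ?_⟩
      rw [show n * (x * k0⁻¹) * n⁻¹ = (n * x * n⁻¹) * (n * k0⁻¹ * n⁻¹) by group, hnx,
        hinv _ (K.inv_mem hk0), inv_inv, h.comm (h.le hk0) hx, mul_assoc]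
      congr 1
      rw [eq_inv_iff_mul_eq_one]; exact hk3
    have huniq : ∀ a ∈ (R : Subgroup G), ∀ b ∈ (R : Subgroup G), n * a * n⁻¹ = a → n * b * n⁻¹ = b →
        a * b⁻¹ ∈ K → a = b := by
      intro a _ b _ ha hb hab
      have h1 := hinv _ hab
      rw [show n * (a * b⁻¹) * n⁻¹ = (n * a * n⁻¹) * (n * b * n⁻¹)⁻¹ by group, ha, hb,
        eq_inv_iff_mul_eq_one] at h1
      by_contra hne
      have hd : orderOf (a * b⁻¹) ∣ 2 := orderOf_dvd_of_pow_eq_one (by rw [sq]; exact h1)
      have hd3 : orderOf (a * b⁻¹) ∣ 3 := h.cardK ▸ K.orderOf_dvd_natCard hab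
      exact hne (mul_inv_eq_one.1 (orderOf_eq_one_iff.1 (Nat.dvd_one.1 (Nat.dvd_gcd hd hd3))))
    obtain ⟨k, hk, hx1⟩ := hfixed x0 hx0.1
    set x1 := x0 * k
    have hx1R : x1 ∈ (R : Subgroup G) := mul_mem hx0.1 (h.le hk)
    have hx1K : x1 ∉ K := fun e => hx0.2 (by simpa [x1] using K.mul_mem e (K.inv_mem hk))
    have hx1' : n * x1⁻¹ * n⁻¹ = x1⁻¹ := by
      rw [show n * x1⁻¹ * n⁻¹ = (n * x1 * n⁻¹)⁻¹ by group, hx1]
    have hfix : ∀ x ∈ outK R K, (n * x * n⁻¹ = x ↔ (x = x1 ∨ x = x1⁻¹)) := by
      intro x hx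
      rw [mem_outK] at hx
      refine ⟨fun e => ?_, by rintro (rfl | rfl); exacts [hx1, hx1']⟩
      rcases h.two_cosets hx.1 hx.2 hx1R hx1K with e' | e'
      · exact Or.inl (huniq x hx.1 x1 hx1R e hx1 e')
      · exact Or.inr (huniq x hx.1 x1⁻¹ (inv_mem hx1R) e hx1' (by rwa [inv_inv]))
    have hst : ∀ x ∈ outK R K, Nat.card (st R x) ^ 2 =
        Nat.card C ^ 2 + if n * x * n⁻¹ = x then 3 * Nat.card C ^ 2 else 0 := by
      intro x hx
      rw [mem_outK] at hx
      split_ifs with e
      · have hnst : n ∈ st R x := ⟨hn.1, mem_cent.2 (mul_inv_eq_iff_eq_mul.1 e)⟩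
        rcases h.st_cases hx.1 hx.2 with e' | e'
        · exact absurd (show n ∈ C by rw [hC, ← e']; exact hnst) hnC
        · rw [e']; ring
      · have : st R x = C := by
          refine le_antisymm (fun m hm => ?_) (h.cent_le_st hx.1)
          by_contra hmC
          apply e
          have hmn := h.mul_of_not_cent (h.st_le hx.1 hx.2 hm) hmC hn hnC
          have h1 : m * n * x = x * (m * n) := (mem_centralizer_iff.1 hmn x hx.1).symm
          have h2 : m * x = x * m := mem_cent.1 hm.2
          rw [mul_inv_eq_iff_eq_mul]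
          apply mul_left_cancel (a := m)
          rw [← mul_assoc, ← mul_assoc, h1, h2]
          group
        rw [this, add_zero]
    have hpair : (outK R K).filter (fun x => n * x * n⁻¹ = x) = {x1, x1⁻¹} := by
      ext x
      simp only [mem_filter, mem_insert, mem_singleton]
      refine ⟨fun hx => (hfix x hx.1).1 hx.2, ?_⟩
      rintro (rfl | rfl)
      · exact ⟨mem_outK.2 ⟨hx1R, hx1K⟩, hx1⟩
      · exact ⟨mem_outK.2 ⟨inv_mem hx1R, fun e => hx1K (by simpa using K.inv_mem e)⟩, hx1'⟩
    have hne : x1 ≠ x1⁻¹ := by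
      intro e
      have hd : orderOf x1 ∣ 2 := orderOf_dvd_of_pow_eq_one (by rw [sq]; nth_rewrite 2 [e]; simp)
      have hx11 : x1 ≠ 1 := fun e => hx1K (e ▸ K.one_mem)
      rcases h.orderOf_cases hx1R hx11 with e' | e' <;> rw [e'] at hd <;> norm_num at hd
    rw [sum_congr rfl hst, sum_add_distrib, sum_const, h.card_outK, smul_eq_mul, ← sum_filter, hpair,
      sum_const, card_pair hne, smul_eq_mul, hN, hK]
    ring

theorem conj_iff_normalizer (h : Inv R K) {x y : G} (hx : x ∈ (R : Subgroup G)) (hy : y ∈ (R : Subgroup G)) :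
    IsConj x y ↔ ∃ n ∈ normalizer ((R : Subgroup G) : Set G), n * x * n⁻¹ = y := by
  refine ⟨fun hc => ?_, fun ⟨n, _, e⟩ => isConj_iff.2 ⟨n, e⟩⟩
  obtain ⟨c, rfl⟩ := isConj_iff.1 hc
  haveI := h.isMulCommutative
  obtain ⟨n, hn, e⟩ := R.conj_eq_normalizer_conj_of_mem x c⁻¹ hx (by rw [inv_inv]; exact hy)
  exact ⟨n⁻¹, inv_mem hn, by simpa using e.symm⟩

/-- the elements whose `3`-part is conjugate into `R \ K` -/
noncomputable def third (R : Sylow 3 G) (K : Subgroup G) : Finset G :=
  univ.filter fun g => ∃ x ∈ outK R K, IsConj x (H20.pPart 3 g)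

theorem Inv.card_third (h : Inv R K) (hmove : ∃ n ∈ normalizer ((R : Subgroup G) : Set G), n ∉ ker0 R K) :
    3 * (third R K).card = Nat.card G := by
  set N := normalizer ((R : Subgroup G) : Set G)
  set C := centralizer ((R : Subgroup G) : Set G)
  -- the section of one element
  have hsec : ∀ x ∈ outK R K, 9 * Nat.card C * (univ.filter fun g : G => IsConj x (H20.pPart 3 g)).card =
      Nat.card G * Nat.card (st R x) := by
    intro x hx
    rw [mem_outK] at hx
    set cls := univ.filter fun y : G => IsConj x y with hcls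
    have hc : cls.card * Nat.card (centralizer ({x} : Set G)) = Nat.card G := by
      rw [hcls, ← Fintype.card_subtype, ← Nat.card_eq_fintype_card]
      exact H65.card_class_mul x
    have hfib : ∀ y ∈ cls, ((univ.filter fun g : G => IsConj x (H20.pPart 3 g)).filter
        fun g => H20.pPart 3 g = y).card = (reg x).card := by
      intro y hy
      simp only [hcls, mem_filter, mem_univ, true_and] at hy
      obtain ⟨c, hc⟩ := isConj_iff.1 hy
      have hy' : ∃ j : ℕ, orderOf y = 3 ^ j := by
        rw [← hc, orderOf_conj_eq]; exact exists_orderOf_of_mem R hx.1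
      rw [filter_filter, show (univ.filter fun g : G => IsConj x (H20.pPart 3 g) ∧ H20.pPart 3 g = y) =
        univ.filter fun g : G => H20.pPart 3 g = y by
          ext g; simp only [mem_filter, mem_univ, true_and]
          exact ⟨And.right, fun e => ⟨e ▸ hy, e⟩⟩, card_pPart_fibre hy']
      refine card_bij' (fun k _ => c⁻¹ * k * c) (fun k _ => c * k * c⁻¹) ?_ ?_ ?_ ?_
      · intro k hk
        simp only [reg, mem_filter, mem_univ, true_and] at hk ⊢
        refine ⟨?_, by rw [show c⁻¹ * k * c = c⁻¹ * k * c⁻¹⁻¹ by group, orderOf_conj_eq]; exact hk.2⟩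
        have h1 := hk.1
        rw [← hc] at h1
        calc c⁻¹ * k * c * x = c⁻¹ * (k * (c * x * c⁻¹)) * c := by group
          _ = c⁻¹ * ((c * x * c⁻¹) * k) * c := by rw [h1]
          _ = _ := by group
      · intro k hk
        simp only [reg, mem_filter, mem_univ, true_and] at hk ⊢
        refine ⟨?_, by rw [orderOf_conj_eq]; exact hk.2⟩
        rw [← hc]
        calc c * k * c⁻¹ * (c * x * c⁻¹) = c * (k * x) * c⁻¹ := by group
          _ = _ := by rw [hk.1]; group
      · intro k _; show c * (c⁻¹ * k * c) * c⁻¹ = k; group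
      · intro k _; show c⁻¹ * (c * k * c⁻¹) * c = k; group
    rw [card_eq_sum_card_fiberwise (f := fun g => H20.pPart 3 g) (t := cls)
      (fun g hg => by simpa [hcls] using hg), sum_congr rfl hfib, sum_const, smul_eq_mul, ← hc]
    have := h.reg_card hx.1 hx.2
    calc 9 * Nat.card C * (cls.card * (reg x).card) = cls.card * (9 * (reg x).card * Nat.card C) := by ring
      _ = _ := by rw [this]; ring
  -- each element is covered `|N|` times
  have hcov : ∀ g ∈ third R K,
      ∑ x ∈ (outK R K).filter (fun x => IsConj x (H20.pPart 3 g)), Nat.card (st R x) = Nat.card N := by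
    intro g hg
    simp only [third, mem_filter, mem_univ, true_and] at hg
    obtain ⟨x0, hx0, hx0c⟩ := hg
    rw [mem_outK] at hx0
    rw [← card_filter_mem N, card_eq_sum_card_fiberwise (f := fun n => n * x0 * n⁻¹)
      (t := (outK R K).filter fun x => IsConj x (H20.pPart 3 g))]
    · refine sum_congr rfl fun x hx => ?_
      rw [mem_filter, mem_outK] at hx
      obtain ⟨m, hm, hmx⟩ := (conj_iff_normalizer h hx0.1 hx.1.1).1 (hx0c.trans hx.2.symm)
      rw [← card_filter_mem (st R x)]
      refine card_bij' (fun a _ => a * m) (fun b _ => b * m⁻¹) ?_ ?_ ?_ ?_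
      · intro a ha
        simp only [mem_filter, mem_univ, true_and, st, Subgroup.mem_inf] at ha ⊢
        refine ⟨mul_mem ha.1 hm, ?_⟩
        have hax := mem_cent.1 ha.2
        rw [show a * m * x0 * (a * m)⁻¹ = a * (m * x0 * m⁻¹) * a⁻¹ by group, hmx, hax]
        group
      · intro b hb
        simp only [mem_filter, mem_univ, true_and, st, Subgroup.mem_inf] at hb ⊢
        refine ⟨mul_mem hb.1 (inv_mem hm), mem_cent.2 ?_⟩
        rw [← mul_inv_eq_iff_eq_mul]
        conv_lhs => rw [show b * m⁻¹ * x * (b * m⁻¹)⁻¹ = b * (m⁻¹ * x * m) * b⁻¹ by group]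
        rw [← hmx, show m⁻¹ * (m * x0 * m⁻¹) * m = x0 by group]
        exact hb.2.trans hmx.symm
      · intro a _; simp
      · intro b _; simp
    · intro n hn
      simp only [coe_filter, mem_univ, true_and, Set.mem_ofPred_eq] at hn ⊢
      exact ⟨mem_outK.2 ⟨(mem_normalizer_iff.1 hn x0).1 hx0.1, h.conj_notMem hn hx0.2⟩,
        (isConj_iff.2 ⟨n, rfl⟩ : IsConj x0 _).symm.trans hx0c⟩
  -- double counting
  have key : Nat.card N * (third R K).card =
      ∑ x ∈ outK R K, Nat.card (st R x) * (univ.filter fun g : G => IsConj x (H20.pPart 3 g)).card := by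
    calc Nat.card N * (third R K).card
        = ∑ g ∈ third R K, ∑ x ∈ (outK R K).filter (fun x => IsConj x (H20.pPart 3 g)),
            Nat.card (st R x) := by rw [sum_congr rfl hcov, sum_const, smul_eq_mul, mul_comm]
      _ = ∑ x ∈ outK R K, ∑ g ∈ univ.filter (fun g : G => IsConj x (H20.pPart 3 g)),
            Nat.card (st R x) := by
          refine sum_comm' fun g x => ?_
          simp only [third, mem_filter, mem_univ, true_and]
          exact ⟨fun e => ⟨e.2.2, e.2.1⟩, fun e => ⟨⟨x, e.2, e.1⟩, e.2, e.1⟩⟩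
      _ = _ := sum_congr rfl fun x _ => by rw [sum_const, smul_eq_mul, mul_comm]
  have e : 9 * Nat.card C * (Nat.card N * (third R K).card) = Nat.card G * (3 * Nat.card N * Nat.card C) := by
    rw [key, mul_sum, ← h.sum_st hmove, mul_sum]
    refine sum_congr rfl fun x hx => ?_
    rw [show 9 * Nat.card C * (Nat.card (st R x) * (univ.filter fun g : G => IsConj x (H20.pPart 3 g)).card)
      = Nat.card (st R x) * (9 * Nat.card C * (univ.filter fun g : G => IsConj x (H20.pPart 3 g)).card) by ring,
      hsec x hx]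
    ring
  have hpos : 0 < 3 * (Nat.card C * Nat.card N) := by
    have := Nat.card_pos (α := C); have := Nat.card_pos (α := N); positivity
  refine Nat.eq_of_mul_eq_mul_left hpos ?_
  linarith [e]

end H59.Nine
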